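import Cfsg.Agent.H283.OddSpor
import Cfsg.Agent.H284.SepOrd
import Cfsg.Agent.H298.EOCard
import Cfsg.Agent.S2119

/-!
# No components `A_n`, `n ≥ 8`, in the groups of Lie type of odd characteristic (helper220)

`no_alt` : `K` simple of Lie type in odd characteristic, `x ∈ Aut(K)`, `x ^ 2 = 1`, `A` a normal component of `C_K(x)`:
`A` is not isomorphic to `A_n`, `n ≥ 8`.
-/

set_option autoImplicit false

namespace Cfsg.Agent.H220.AltOdd

open Cfsg Subgroup Cfsg.Agent.OrdDiv Cfsg.Agent.H902
open Cfsg.Agent.OddHalf.Known (IsLie)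

universe u

/-- `|Aut(A_n)|` -/
theorem card_aut {n : ℕ} (hn : 7 ≤ n) : Nat.card (MulAut ↥(alternatingGroup (Fin n))) = n.factorial := by
  have h := Cfsg.Agent.S2119.result n (by omega) (by omega)
  rw [← Nat.card_congr (Equiv.ofBijective _ h), Nat.card_perm, Nat.card_fin]

/-- automorphisms of odd order are inner -/
theorem oi_alt {n : ℕ} (hn : 7 ≤ n) : H256.OddInner.OI ↥(alternatingGroup (Fin n)) := by
  apply H256.OddInner.OI.of_sq
  intro α
  obtain ⟨σ, rfl⟩ := (Cfsg.Agent.S2119.result n (by omega) (by omega)).2 α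
  have hσ : σ ^ 2 ∈ alternatingGroup (Fin n) := by
    rw [Equiv.Perm.mem_alternatingGroup, map_pow, Int.units_sq]
  refine ⟨⟨σ ^ 2, hσ⟩, ?_⟩
  rw [← map_pow]
  ext a : 2
  rfl

theorem center_alt {n : ℕ} (hn : 5 ≤ n) : center ↥(alternatingGroup (Fin n)) = ⊥ :=
  alternatingGroup.center_eq_bot (by rw [Nat.card_eq_fintype_card, Fintype.card_fin]; omega)

/-- `A / Z(A) ≅ A_n` -/
theorem exists_quo {A : Type*} [Group A] {n : ℕ} (hn : 5 ≤ n) (e : A ≃* ↥(alternatingGroup (Fin n))) :
    Nonempty ((A ⧸ center A) ≃* ↥(alternatingGroup (Fin n))) := by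
  obtain ⟨f⟩ := H283.OddComp.exists_quoEquiv e
  exact ⟨f.trans ((QuotientGroup.quotientMulEquivOfEq (center_alt hn)).trans QuotientGroup.quotientBot)⟩

/-- `A_n`, `n ≥ 9`, is not of Lie type, nor the Tits group -/
theorem not_lie_nine (T : OrderTable.{u}) {S : Type u} [Group S] {n : ℕ} (hn : 9 ≤ n)
    (e : S ≃* ↥(alternatingGroup (Fin n))) : ¬ (IsLie S ∨ Lie.IsoTits S) := by
  have hc := alt_card (by omega) e
  rintro (⟨p, hp, h⟩ | h)
  · obtain ⟨X, f, hX⟩ := H284.SepOrd.real_of_lie T hp h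
    rcases Art.alt_lie hX (by omega) hc.symm with h1 | h1 | h1
    · rw [h1] at hc
      have := Art.alt_inj (M := 60) (n := n) (m := 5) (by omega) hc.symm (by decide)
      omega
    · rw [h1] at hc
      have := Art.alt_inj (M := 360) (n := n) (m := 6) (by omega) hc.symm (by decide)
      omega
    · rw [h1] at hc
      have := Art.alt_inj (M := 20160) (n := n) (m := 8) (by omega) hc.symm (by decide)
      omega
  · have h1 : Nat.card S = 17971200 := T.spor S (.tits, 17971200) (by decide) h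
    rw [h1] at hc
    have h2 : n ≤ 11 := by
      by_contra hlt
      have h3 := Nat.factorial_le (show 12 ≤ n by omega)
      rw [hc] at h3
      revert h3
      decide
    interval_cases n <;> revert hc <;> decide

theorem row_eight {S : Type*} [Group S] (e : S ≃* ↥(alternatingGroup (Fin 8))) : H298.EOCard.Row 0 S := by
  refine H298.EOCard.Row.congr e.symm ?_
  have hs : IsSimpleGroup ↥(alternatingGroup (Fin 8)) := alternatingGroup.isSimpleGroup (by rw [Nat.card_fin]; norm_num)
  have hc := alt_card (n := 8) (by norm_num) (MulEquiv.refl ↥(alternatingGroup (Fin 8)))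
  refine H298.EOCard.row_of (N := 20160) (M := 40320) (a := 7) (l := [(3, 2, 7), (5, 1, 7), (7, 1, 5)])
    (by decide +kernel) ?_ ?_ ?_
  · intro h
    have h1 : (⊤ : Subgroup ↥(alternatingGroup (Fin 8))) ≤ center ↥(alternatingGroup (Fin 8)) := by
      intro y _
      rw [mem_center_iff]
      exact fun z => h.is_comm.comm z y
    rw [center_alt (by norm_num)] at h1
    obtain ⟨y, hy⟩ := exists_ne (1 : ↥(alternatingGroup (Fin 8)))
    exact hy (mem_bot.1 (h1 (mem_top y)))
  · have h2 : (8 : ℕ).factorial = 40320 := by decide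
    omega
  · rw [card_aut (by norm_num)]
    decide

/-- **No alternating components.** -/
theorem no_alt (T : OrderTable.{u}) {K : Type u} [Group K] [Finite K] [IsSimpleGroup K] {p : ℕ} (hp : p.Prime)
    (hp2 : p ≠ 2) (hK : IsLieTypeChar p K) {x : MulAut K} (hx : x ^ 2 = 1) {A : Subgroup ↥(fixedSubgroup x)} [A.Normal]
    (hA : IsComponent A) {n : ℕ} (hn : 8 ≤ n) (e : ↥A ≃* ↥(alternatingGroup (Fin n))) : False := by
  have : Fact p.Prime := ⟨hp⟩
  obtain ⟨f⟩ := exists_quo (by omega) e
  rcases Nat.eq_or_lt_of_le hn with rfl | h9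
  · -- `n = 8`
    have h3 : 3 ∣ Nat.card ↥A := by
      have h1 := alt_card (n := 8) (by norm_num) e
      have h2 : (8 : ℕ).factorial = 40320 := by decide
      omega
    obtain ⟨p', hp', hp2', h⟩ := H298.EOAlm.exists_almost hp2 hK x (by rw [← pow_two]; exact hx) A hA.2 h3
    exact ((row_eight f).kill p' hp' hp2' h).2 rfl
  · have := hA.2.2
    have hperf := hA.2.1.commutator_eq_top
    by_cases hR : Lie.IsoRee K
    · have h1 := H340.CF.component (H283.OddSpor.cf_ree.{u, u} hR x (by rw [← pow_two]; exact hx)) hA.1 hA.2.2 hperf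
      exact not_lie_nine T h9 f (Or.inl ⟨3, Nat.prime_three, h1⟩)
    · have h1 := H283.OddComp.odd_row hp2 hK hR x hx A hA
        (H283.OddSpor.inn_of_OI hp hp2 hA.2 ((oi_alt (by omega)).congr f))
      obtain ⟨P, h2, h3⟩ := h1.isSplit
      exact not_lie_nine T h9 f (H283.OddSpor.lie_of_concl (S1144.result P h2 h3))

end Cfsg.Agent.H220.AltOdd
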