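import Cfsg.Agent.H220.AltOdd
import Cfsg.Agent.H291.AltSpor
import Cfsg.Agent.H284.FStd
import Cfsg.Agent.H284.AltComp
import Cfsg.Agent.OddHalf.Known
import Cfsg.Agent.S1347
import Cfsg.Agent.S4403

/-!
# Standard subgroups `A_n`, `n ≥ 8` (helper220)

`main` : S3124 from the classification, the sporadic rows (helper291), the rows of odd characteristic (`AltOdd`), the
alternating rows (helper284) and the row of characteristic two.
-/

set_option autoImplicit false

namespace Cfsg.Agent.H220.AltStd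

open Cfsg Subgroup Cfsg.Agent.H284.FStd Cfsg.Agent.SignalizersComponents
open Cfsg.Agent.SignalizersComponents.StandardTrichotomy

universe u

/-- the row of the groups of Lie type of characteristic two -/
def RowTwo : Prop :=
  ∀ {K : Type u} [Group K] [Finite K] [IsSimpleGroup K], ¬ IsMulCommutative K → IsLieTypeChar 2 K →
    ∀ {x : MulAut K}, x * x = 1 → x ≠ 1 → ∀ {A : Subgroup ↥(fixedSubgroup x)}, IsComponent A → ∀ {n : ℕ}, 8 ≤ n →
    Nonempty (↥A ≃* ↥(alternatingGroup (Fin n))) →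
    n = 8 ∧ ∃ (F : Type) (_ : Field F) (_ : Fintype F), Fintype.card F = 4 ∧
      Nonempty (K ≃* Matrix.ProjectiveSpecialLinearGroup (Fin 4) F)

/-- two commuting subgroups with trivial intersection -/
theorem exists_prod {G : Type*} [Group G] {X Y L : Subgroup G} (hc : ∀ a ∈ X, ∀ b ∈ Y, a * b = b * a)
    (hi : X ⊓ Y = ⊥) (hs : X ⊔ Y = L) : Nonempty (↥L ≃* ↥X × ↥Y) := by
  have hcom : ∀ (a : ↥X) (b : ↥Y), Commute (X.subtype a) (Y.subtype b) := fun a b => hc a a.2 b b.2
  let f : ↥X × ↥Y →* G := MonoidHom.noncommCoprod X.subtype Y.subtype hcom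
  have hf : Function.Injective f := by
    rw [MonoidHom.noncommCoprod_injective]
    refine ⟨X.subtype_injective, Y.subtype_injective, ?_⟩
    rw [range_subtype, range_subtype, disjoint_iff, hi]
  have hr : f.range = L := by
    rw [MonoidHom.noncommCoprod_range, range_subtype, range_subtype, hs]
  exact ⟨((MonoidHom.ofInjective hf).trans (MulEquiv.subgroupCongr hr)).symm⟩

theorem alt_ne {n m : ℕ} (hn : 5 ≤ n) (hm : 5 ≤ m) (e : ↥(alternatingGroup (Fin n)) ≃* ↥(alternatingGroup (Fin m))) :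
    n = m := by
  have h1 := OrdDiv.alt_card hn (MulEquiv.refl ↥(alternatingGroup (Fin n)))
  have h2 := OrdDiv.alt_card hm e
  exact (Nat.factorial_inj (by omega)).1 (h1.trans h2.symm)

/-- **Standard subgroups `A_n`.** -/
theorem main (H1170 : GTwoRows.ONQuot.H1170) (HT : CpAut.TwoRows) (T : OrdDiv.OrderTable.{u}) (HL : RowTwo.{u})
    (HK : ∀ (S : Type u) [Group S] [Finite S] [IsSimpleGroup S], IsKnownSimple' S)
    {G : Type u} [Group G] [Finite G] (hO : oddCore G = ⊥) (A : Subgroup G) (hA : IsStandardSubgroup A)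
    (hnA : ¬ A.Normal)
    (hR : ∀ R : Sylow 2 ↥(centralizer (A : Set G)), IsCyclic ↥(R : Subgroup ↥(centralizer (A : Set G))))
    (n : ℕ) (hn : 8 ≤ n) (hAX : Nonempty (↥A ≃* ↥(alternatingGroup (Fin n)))) :
    Nonempty (↥(layer G) ≃* ↥A × ↥A) ∨ Nonempty (↥(layer G) ≃* ↥(alternatingGroup (Fin (n + 2)))) ∨
      (n = 8 ∧ ((∃ (F : Type) (_ : Field F) (_ : Fintype F), Fintype.card F = 4 ∧
          Nonempty (↥(layer G) ≃* Matrix.ProjectiveSpecialLinearGroup (Fin 4) F)) ∨ Spor.IsoHS ↥(layer G))) ∨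
      (n = 10 ∧ Spor.IsoHN ↥(layer G)) := by
  obtain ⟨e⟩ := hAX
  have : Fact (Nat.Prime 2) := ⟨Nat.prime_two⟩
  obtain ⟨t, ht0⟩ := exists_prime_orderOf_dvd_card' 2 hA.2.1.1.two_dvd
  have ht : orderOf (t : G) = 2 := by rw [Subgroup.orderOf_coe, ht0]
  have htA := t.2
  have hR' : ∀ u ∈ centralizer (A : Set G), orderOf u = 2 → (t : G) * u = u * t → u = t := by
    intro u hu ho htu
    have h1 := Cfsg.Agent.S4403.mem_zpowers_of_commute (default : Sylow 2 ↥(centralizer (A : Set G))) (hR _)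
      (x := t) (y := ⟨u, hu⟩) ht0 (by rw [Subgroup.orderOf_mk]; exact ho) (Subtype.ext htu)
    obtain ⟨k, hk⟩ := mem_zpowers_iff.1 h1
    have hk' : (t : G) ^ k = u := congrArg Subtype.val hk
    have htt : (t : G) * t = 1 := by rw [← pow_two, ← ht, pow_orderOf_eq_one]
    rcases Int.even_or_odd' k with ⟨j, rfl | rfl⟩
    · exfalso
      rw [zpow_mul, zpow_ofNat, pow_two, htt, one_zpow] at hk'
      rw [← hk', orderOf_one] at ho
      omega
    · rw [zpow_add, zpow_mul, zpow_ofNat, pow_two, htt, one_zpow, one_mul, zpow_one] at hk'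
      exact hk'.symm
  rcases S1347.result A hA hO (t : G) ht htA with h | ⟨X, hX, hXn, ⟨f⟩, hcomm, hinf, hsup, -⟩ | ⟨hAY, hs, hna⟩
  · exact absurd h hnA
  · left
    obtain ⟨g⟩ := exists_prod hcomm hinf hsup
    have f2 : ↥X ≃* ↥(X.map (MulAut.conj (t : G)).toMonoidHom) :=
      X.equivMapOfInjective _ (MulAut.conj (t : G)).injective
    exact ⟨g.trans (MulEquiv.prodCongr f (f2.symm.trans f))⟩
  · right
    have hYn : (layer G).Normal := Components.layer_normal G
    have h2 : pCore 2 G = ⊥ := by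
      by_contra hne
      exact hnA (normal_of_pCore_ne_bot hA ht htA hne)
    have hc : centralizer (layer G : Set G) = ⊥ := centralizer_layer_eq_bot hO h2
    obtain ⟨h1, h2, h3⟩ := comp_fix hc hA hAY ht htA
    have hBn : (BB (layer G) A (t : G)).Normal := by
      refine ⟨fun a ha y => ?_⟩
      have hy : ((y : ↥(layer G)) : G) ∈ centralizer ({(t : G)} : Set G) := by
        rw [mem_centralizer_singleton_iff]
        exact (mem_fix.1 y.2).symm
      have hn := centralizer_involution_le hA ht htA hy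
      exact (mem_normalizer_iff.1 hn _).1 ha
    have eB : ↥(BB (layer G) A (t : G)) ≃* ↥(alternatingGroup (Fin n)) := (BBequiv hAY htA).trans e
    rcases OddHalf.Known.classify hna (HK ↥(layer G)) with h | ⟨p, hp, hp2, h⟩ | (h | h) | h
    · -- alternating
      left
      obtain ⟨m, hm, ⟨em⟩⟩ := h
      obtain ⟨n', k, hn', hk, hmn, ⟨e'⟩, -, hfour⟩ := H284.AltComp.table hm em h1 h2 h3
      have hnn : n = n' := alt_ne (by omega) hn' (eB.symm.trans e')
      subst hnn
      rcases Nat.lt_or_ge k 2 with hk2 | hk2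
      · have : m = n + 2 := by omega
        subst this
        exact ⟨em⟩
      · exfalso
        obtain ⟨a, b, ha, hb, hoa, hob, hab, -⟩ := hfour hk2
        have key : ∀ c : ↥(fixedSubgroup (MulAut.conjNormal (t : G) : MulAut ↥(layer G))),
            c ∈ centralizer (BB (layer G) A (t : G) : Set _) → orderOf c = 2 → ((c : ↥(layer G)) : G) = t := by
          intro c hc ho
          refine hR' _ ?_ ?_ (mem_fix.1 c.2)
          · rw [mem_centralizer_iff]
            intro y hy
            have h5 := (mem_centralizer_iff.1 hc) ⟨⟨y, hAY hy⟩, le_fix htA (mem_subgroupOf.2 hy)⟩ hy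
            exact congrArg (fun z : ↥(fixedSubgroup (MulAut.conjNormal (t : G) : MulAut ↥(layer G))) =>
              ((z : ↥(layer G)) : G)) h5
          · rw [Subgroup.orderOf_coe, Subgroup.orderOf_coe, ho]
        exact hab (Subtype.ext (Subtype.ext ((key a ha hoa).trans (key b hb hob).symm)))
    · exact (AltOdd.no_alt T hp hp2 h (by rw [pow_two]; exact h1) h3 hn eB).elim
    · obtain ⟨rfl, h4⟩ := HL hna h h1 h2 h3 hn ⟨eB⟩
      exact Or.inr (Or.inl ⟨rfl, Or.inl h4⟩)
    · rcases H291.AltSpor.of_standard H1170 HT (Or.inr h) hc hA hAY ht htA hR' hn e with ⟨rfl, h⟩ | ⟨rfl, h⟩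
      · exact Or.inr (Or.inl ⟨rfl, Or.inr h⟩)
      · exact Or.inr (Or.inr ⟨rfl, h⟩)
    · rcases H291.AltSpor.of_standard H1170 HT (Or.inl h) hc hA hAY ht htA hR' hn e with ⟨rfl, h⟩ | ⟨rfl, h⟩
      · exact Or.inr (Or.inl ⟨rfl, Or.inr h⟩)
      · exact Or.inr (Or.inr ⟨rfl, h⟩)

end Cfsg.Agent.H220.AltStd
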