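import Mathlib
import Cfsg.Agent.H220.SpecBasic
import Cfsg.Agent.H220.SLThree

/-!
# The spectrum `1, 2, 3, 4, 6, 8, 13`: insoluble groups
-/

set_option autoImplicit false

namespace Cfsg.Agent.H220.Spec

open Matrix

theorem mem_Om_of_dvd {n d : ℕ} (hn : n ∈ Om) (hd : d ∣ n) : d ∈ Om := by
  rw [mem_Om] at hn ⊢
  have h0 : 0 < n := by omega
  have h1 := Nat.le_of_dvd h0 hd
  rcases hn with rfl | rfl | rfl | rfl | rfl | rfl | rfl <;> interval_cases d <;>
    first | omega | norm_num

variable {G : Type*} [Group G] [Finite G]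

theorem primeFactors_card_le (hΩ : ∀ g : G, orderOf g ∈ Om) :
    (Nat.card G).primeFactors.card ≤ 3 := by
  have h1 : (Nat.card G).primeFactors ⊆ {2, 3, 13} := by
    intro p hp
    rw [Nat.mem_primeFactors] at hp
    have := Fact.mk hp.1
    obtain ⟨g, hg⟩ := exists_prime_orderOf_dvd_card' (G := G) p hp.2.1
    have h2 := mem_Om.mp (hΩ g)
    rw [hg] at h2
    have h3 := hp.1
    simp only [Finset.mem_insert, Finset.mem_singleton]
    rcases h2 with rfl | rfl | rfl | rfl | rfl | rfl | rfl
    · exact absurd h3 (by norm_num)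
    · simp
    · simp
    · exact absurd h3 (by norm_num)
    · exact absurd h3 (by norm_num)
    · exact absurd h3 (by norm_num)
    · simp
  exact (Finset.card_le_card h1).trans (by decide)

theorem nonsolv (hΩ : ∀ g : G, orderOf g ∈ Om)
    (hcrit : ∀ (H : Subgroup G) (N : Subgroup ↥H) [N.Normal], (H ≠ ⊤ ∨ N ≠ ⊥) →
      Set.range (orderOf : (↥H ⧸ N) → ℕ) ≠ Om)
    (hcard : ∀ (F : Type) [Field F] [Fintype F] (q : ℕ), Fintype.card F = q → 4 ≤ q →
      (q + 1) * q * (q - 1) ∣ 2 * Nat.card (Matrix.ProjectiveSpecialLinearGroup (Fin 2) F))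
    (h : ∃ (H : Subgroup G) (N : Subgroup H) (_ : N.Normal) (F : Type) (_ : Field F)
      (_ : Fintype F),
      ((Fintype.card F = 5 ∨ Fintype.card F = 7 ∨ Fintype.card F = 8 ∨ Fintype.card F = 17) ∧
          Nonempty (H ⧸ N ≃* Matrix.ProjectiveSpecialLinearGroup (Fin 2) F)) ∨
        (Fintype.card F = 3 ∧ Nonempty (H ⧸ N ≃* Matrix.ProjectiveSpecialLinearGroup (Fin 3) F))) :
    ∃ (F : Type) (_ : Field F) (_ : Fintype F), Fintype.card F = 3 ∧
      Nonempty (G ≃* Matrix.SpecialLinearGroup (Fin 3) F) := by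
  classical
  obtain ⟨H, N, hN, F, hF, hFf, h⟩ := h
  rcases h with ⟨hq, ⟨e⟩⟩ | ⟨hq, ⟨e⟩⟩
  · exfalso
    -- a prime divisor of the order of the section divides the order of `G`
    have hp : ∀ p : ℕ, p.Prime → p ≠ 2 → p ∣ 2 * Nat.card
        (Matrix.ProjectiveSpecialLinearGroup (Fin 2) F) → p = 3 ∨ p = 13 := by
      intro p hp hp2 hpd
      have h1 : p ∣ Nat.card (Matrix.ProjectiveSpecialLinearGroup (Fin 2) F) := by
        rcases (Nat.Prime.dvd_mul hp).mp hpd with h2 | h2
        · exact absurd ((Nat.prime_dvd_prime_iff_eq hp Nat.prime_two).mp h2) hp2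
        · exact h2
      rw [← Nat.card_congr e.toEquiv] at h1
      have h2 : p ∣ Nat.card G :=
        (h1.trans (Subgroup.card_quotient_dvd_card N)).trans (Subgroup.card_subgroup_dvd_card H)
      have := Fact.mk hp
      obtain ⟨g, hg⟩ := exists_prime_orderOf_dvd_card' (G := G) p h2
      have h3 := mem_Om.mp (hΩ g)
      rw [hg] at h3
      rcases h3 with rfl | rfl | rfl | rfl | rfl | rfl | rfl
      · exact absurd hp (by norm_num)
      · exact absurd rfl hp2
      · simp
      · exact absurd hp (by norm_num)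
      · exact absurd hp (by norm_num)
      · exact absurd hp (by norm_num)
      · simp
    rcases hq with hq | hq | hq | hq
    · have h1 := hp 5 (by norm_num) (by norm_num)
        (dvd_trans (by norm_num) (hcard F 5 hq (by norm_num)))
      omega
    · have h1 := hp 7 (by norm_num) (by norm_num)
        (dvd_trans (by norm_num) (hcard F 7 hq (by norm_num)))
      omega
    · have h1 := hp 7 (by norm_num) (by norm_num)
        (dvd_trans (by norm_num) (hcard F 8 hq (by norm_num)))
      omega
    · have h1 := hp 17 (by norm_num) (by norm_num)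
        (dvd_trans (by norm_num) (hcard F 17 hq (by norm_num)))
      omega
  · obtain ⟨e'⟩ := psl_equiv hq
    let E : H ⧸ N ≃* Matrix.SpecialLinearGroup (Fin 3) F := e.trans e'
    have hrange : Set.range (orderOf : (↥H ⧸ N) → ℕ) = Om := by
      apply Set.Subset.antisymm
      · rintro _ ⟨x, rfl⟩
        obtain ⟨h, rfl⟩ := QuotientGroup.mk'_surjective N x
        apply mem_Om_of_dvd (hΩ (h : G))
        rw [Subgroup.orderOf_coe]
        exact orderOf_map_dvd _ _
      · intro n hn
        obtain ⟨g, hg⟩ := exists_orders hq n hn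
        exact ⟨E.symm g, by rw [MulEquiv.orderOf_eq, hg]⟩
    have h1 : H = ⊤ ∧ N = ⊥ := by
      by_contra hne
      have h2 : H ≠ ⊤ ∨ N ≠ ⊥ := by
        by_contra h3
        push Not at h3
        exact hne h3
      exact hcrit H N h2 hrange
    obtain ⟨rfl, rfl⟩ := h1
    exact ⟨F, hF, hFf, hq,
      ⟨(Subgroup.topEquiv.symm.trans (QuotientGroup.quotientBot (G := (⊤ : Subgroup G))).symm).trans
        E⟩⟩

end Cfsg.Agent.H220.Spec
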