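import Mathlib
import Cfsg.Agent.S0058
import Cfsg.Agent.Lib.HallHigman
import Cfsg.Agent.Lib.Cores
import Cfsg.Agent.H220.CaseA
import Cfsg.Agent.H220.CaseB

/-!
# The spectrum `1, 2, 3, 4, 6, 8, 13`: soluble groups
-/

set_option autoImplicit false

namespace Cfsg.Agent.H220.Spec

variable {G : Type*} [Group G] [Finite G]

theorem card_sylow_eq (hΩ : ∀ g : G, orderOf g ∈ Om) (h13 : ∃ g : G, orderOf g = 13)
    (K : Subgroup G) [hKn : K.Normal] (hK13 : ¬ 13 ∣ Nat.card K) (hK : K ≠ ⊥) (P : Sylow 13 G) :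
    Nat.card P = 13 := by
  have : Fact (Nat.Prime 13) := ⟨by norm_num⟩
  obtain ⟨n, hn⟩ := IsPGroup.iff_card.mp P.isPGroup'
  have hn0 : n ≠ 0 := by
    rintro rfl
    obtain ⟨g, hg⟩ := h13
    have h1 := P.dvd_card_of_dvd_card (by rw [← hg]; exact orderOf_dvd_natCard g)
    rw [hn] at h1
    exact absurd h1 (by norm_num)
  by_contra hne
  have hn2 : 2 ≤ n := by
    by_contra hlt
    have h1 : n = 1 := by omega
    rw [h1, pow_one] at hn
    exact hne hn
  obtain ⟨A, hA⟩ := Sylow.exists_subgroup_card_pow_prime (G := P) 13 (n := 2)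
    (by rw [hn]; exact pow_dvd_pow 13 hn2)
  have hAc : IsMulCommutative A := IsPGroup.isMulCommutative_of_card_eq_prime_sq hA
  let B : Subgroup G := A.map (P : Subgroup G).subtype
  have hBP : B ≤ (P : Subgroup G) := Subgroup.map_subtype_le A
  have hBc : IsMulCommutative B := inferInstance
  have hBcard : Nat.card B = 13 ^ 2 := by
    rw [← hA]
    exact Nat.card_congr (A.equivMapOfInjective _ (P : Subgroup G).subtype_injective).toEquiv.symm
  have hB13 : IsPGroup 13 B := IsPGroup.of_card hBcard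
  have hBnc : ¬ IsCyclic B := by
    intro h
    obtain ⟨g, hg⟩ := h.exists_ofOrder_eq_natCard
    have h1 := mem_Om.mp (hΩ (g : G))
    rw [Subgroup.orderOf_coe, hg, hBcard] at h1
    omega
  have hcop : (Nat.card B).Coprime (Nat.card K) := by
    rw [hBcard]
    exact Nat.Coprime.pow_left _ ((Nat.Prime.coprime_iff_not_dvd (by norm_num)).mpr hK13)
  have h1 := Cfsg.Agent.S0058.result B K hBnc (by rw [Subgroup.normalizer_eq_top]; exact le_top) hcop
  apply hK
  rw [← h1, eq_bot_iff]
  refine iSup_le fun a => iSup_le fun ha => ?_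
  rintro k ⟨hk, hka⟩
  rw [Subgroup.mem_bot]
  have h2 : k * a = a * k := Subgroup.mem_centralizer_singleton_iff.mp hka
  have h3 : orderOf a = 13 := orderOf_eq_of_pGroup hΩ hB13 ha.1 ha.2
  exact eq_one_of_comm hΩ h3 h2.symm (fun h => hK13 (h.trans (Subgroup.orderOf_dvd_natCard K hk)))

theorem solvable_case [Group.IsSolvable G] (hΩ : ∀ g : G, orderOf g ∈ Om)
    (hex : ∀ n ∈ Om, ∃ g : G, orderOf g = n)
    (hcrit : ∀ S : Subgroup G, (∀ n ∈ Om, ∃ s ∈ S, orderOf s = n) → S = ⊤) :
    ∃ (K H : Subgroup G), K.Normal ∧ IsMulCommutative K ∧ (∀ x ∈ K, x ^ 13 = 1) ∧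
      Nat.card K = 13 ^ 4 ∧
        K ⊓ H = ⊥ ∧ K ⊔ H = ⊤ ∧ (∀ h ∈ H, h ≠ 1 → ∀ x ∈ K, h * x * h⁻¹ = x → x = 1) ∧
        ∃ (Z : Subgroup ↥H) (_ : Z.Normal), Nat.card Z = 2 ∧
          (∀ Z' : Subgroup ↥H, Nat.card Z' = 2 → Z' = Z) ∧
          Nonempty (↥H ⧸ Z ≃* Equiv.Perm (Fin 4)) := by
  classical
  have : Fact (Nat.Prime 13) := ⟨by norm_num⟩
  set K := Cfsg.pPrimeCore 13 G with hKdef
  have hKn : K.Normal := Lib.Cores.pPrimeCore_normal 13
  have hKc : (Nat.card K).Coprime 13 := Lib.Cores.pPrimeCore_coprime 13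
  by_cases hK : K = ⊥
  · have hMn : (Cfsg.pCore 13 G).Normal := Lib.Cores.pCore_normal 13
    exact caseA hΩ hex hcrit (Cfsg.pCore 13 G) (Lib.Cores.pCore_isPGroup 13)
      (Lib.HallHigman.centralizer_pCore_le_of_solvable 13 hK)
  exfalso
  have hK13 : ¬ 13 ∣ Nat.card K := fun h => by
    have := Nat.Coprime.eq_one_of_dvd (Nat.coprime_comm.mp hKc) h
    exact absurd this (by norm_num)
  have h13 : ∃ g : G, orderOf g = 13 := hex 13 (by simp)
  obtain ⟨P⟩ : Nonempty (Sylow 13 G) := inferInstance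
  have hP : Nat.card P = 13 := card_sylow_eq hΩ h13 K hK13 hK P
  obtain ⟨ρ, hρP, hρ⟩ : ∃ ρ : G, ρ ∈ (P : Subgroup G) ∧ orderOf ρ = 13 := by
    obtain ⟨ρ', hρ'⟩ := exists_prime_orderOf_dvd_card' (G := P) 13 (dvd_of_eq hP.symm)
    exact ⟨(ρ' : P), ρ'.2, by rw [Subgroup.orderOf_coe, hρ']⟩
  have hPρ : (P : Subgroup G) = Subgroup.zpowers ρ := by
    symm
    apply Subgroup.eq_of_le_of_card_ge
    · rw [Subgroup.zpowers_le]; exact hρP
    · rw [Nat.card_zpowers, hρ]; exact hP.le
  have hC : ∀ g, g * ρ = ρ * g → g ∈ Subgroup.zpowers ρ := by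
    intro g hg
    by_cases h1 : 13 ∣ orderOf g
    · have h2 : orderOf g = 13 := by
        have := mem_Om.mp (hΩ g)
        omega
      have h3 : IsPGroup 13 (Subgroup.zpowers g) :=
        IsPGroup.of_card (n := 1) (by rw [Nat.card_zpowers, h2, pow_one])
      have h4 := h3.inf_normalizer_sylow P
      have h5 : g ∈ Subgroup.zpowers g ⊓ (P : Subgroup G) := by
        rw [← h4]
        refine ⟨Subgroup.mem_zpowers g, ?_⟩
        change g ∈ Subgroup.normalizer ((P : Subgroup G) : Set G)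
        rw [hPρ, Subgroup.mem_normalizer_iff]
        have h6 : ∀ h : G, h ∈ Subgroup.zpowers ρ → g * h * g⁻¹ = h := by
          intro h hh
          obtain ⟨k, rfl⟩ := Subgroup.mem_zpowers_iff.mp hh
          have h7 : Commute g (ρ ^ k) := (show Commute g ρ from hg).zpow_right k
          rw [h7.eq]; group
        intro h
        constructor
        · intro hh
          rw [h6 h hh]; exact hh
        · intro hh
          have h7 : Commute g (g * h * g⁻¹) := by
            obtain ⟨k, hk⟩ := Subgroup.mem_zpowers_iff.mp hh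
            rw [← hk]
            exact (show Commute g ρ from hg).zpow_right k
          have h8 : h = g * h * g⁻¹ := by
            calc h = g⁻¹ * (g * h * g⁻¹ * g) := by group
              _ = g⁻¹ * (g * (g * h * g⁻¹)) := by rw [h7.eq]
              _ = g * h * g⁻¹ := by group
          rw [h8]; exact hh
      rw [← hPρ]
      exact h5.2
    · rw [eq_one_of_comm hΩ hρ hg.symm h1]
      exact one_mem _
  -- `K P` is normal
  set f := QuotientGroup.mk' K with hf
  have hfs : Function.Surjective f := QuotientGroup.mk'_surjective K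
  have hsolq : Group.IsSolvable (G ⧸ K) := inferInstance
  have hbar : Cfsg.pPrimeCore 13 (G ⧸ K) = ⊥ := Lib.Cores.pPrimeCore_quotient_pPrimeCore 13
  have hcen := Lib.HallHigman.centralizer_pCore_le_of_solvable (G := G ⧸ K) 13 hbar
  set M := Cfsg.pCore 13 (G ⧸ K) with hM
  have hMn : M.Normal := Lib.Cores.pCore_normal 13
  have hMP : M = (P : Subgroup G).map f := by
    have h1 : M ≤ (P : Subgroup G).map f := by
      have := Lib.Cores.pCore_le_sylow (P.mapSurjective hfs)
      rwa [Sylow.coe_mapSurjective] at this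
    have h2 : Nat.card ((P : Subgroup G).map f) ∣ 13 := by
      have h5 := Subgroup.card_map_dvd (P : Subgroup G) f
      rwa [show Nat.card (P : Subgroup G) = 13 from hP] at h5
    have h3 : M ≠ ⊥ := by
      intro h
      have h4 : ∀ g : G, g ∈ K := by
        intro g
        have h5 : f g ∈ M := by
          apply hcen
          rw [h, Subgroup.mem_centralizer_iff]
          intro k hk
          rw [SetLike.mem_coe, Subgroup.mem_bot] at hk
          rw [hk, one_mul, mul_one]
        rw [h, Subgroup.mem_bot] at h5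
        exact (QuotientGroup.eq_one_iff g).mp h5
      obtain ⟨g, hg⟩ := h13
      exact hK13 (by rw [← hg]; exact Subgroup.orderOf_dvd_natCard K (h4 g))
    apply Subgroup.eq_of_le_of_card_ge h1
    have h4 : Nat.card M ∣ 13 := (Subgroup.card_dvd_of_le h1).trans h2
    rcases (Nat.dvd_prime (by norm_num)).mp h4 with h5 | h5
    · exact absurd (Subgroup.card_eq_one.mp h5) h3
    · rw [h5]; exact Nat.le_of_dvd (by norm_num) h2
  set L := M.comap f with hL
  have hLn : L.Normal := inferInstance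
  have hPL : (P : Subgroup G) ≤ L := by
    rw [hL, hMP]; exact Subgroup.le_comap_map _ _
  have hLeq : L = (P : Subgroup G) ⊔ K := by
    rw [hL, hMP, Subgroup.comap_map_eq, QuotientGroup.ker_mk']
  have hFr2 : Subgroup.normalizer ((P : Subgroup G) : Set G) ⊔ L = ⊤ :=
    Sylow.normalizer_sup_eq_top' P hPL
  refine caseB hΩ (hex 3 (by simp)) (hex 8 (by simp)) K hK13 inferInstance hρ hC ?_
  intro g
  have h1 : Subgroup.normalizer ((P : Subgroup G) : Set G) ⊔ K = ⊤ := by
    rw [eq_top_iff, ← hFr2, hLeq]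
    refine sup_le le_sup_left (sup_le ?_ le_sup_right)
    exact Subgroup.le_normalizer.trans le_sup_left
  have h2 : g ∈ K ⊔ Subgroup.normalizer ((P : Subgroup G) : Set G) := by
    rw [sup_comm, h1]; trivial
  rw [Subgroup.mem_sup_of_normal_left] at h2
  obtain ⟨k, hk, n, hn, hkn⟩ := h2
  refine ⟨k, hk, n, ?_, hkn.symm⟩
  have h3 := (Subgroup.mem_normalizer_iff.mp hn ρ).mp hρP
  rwa [hPρ] at h3

end Cfsg.Agent.H220.Spec
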