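import Mathlib
import Cfsg.Prelude.Def_Local
import Cfsg.Agent.Lib.Cores
import Cfsg.Agent.PLocal.PConstrained
import Cfsg.Agent.PLocal.ZJReduction

/-!
A finite group with a `p`-constrained normal subgroup of index prime to `p` is `p`-constrained.
-/

set_option autoImplicit false

namespace Cfsg.Agent.H220.ZjCon

open Cfsg Subgroup
open Cfsg.Agent.Lib.Cores

/-- a normal subgroup of index prime to `p` contains all `p`-subgroups -/
theorem le_of_isPGroup {G : Type*} [Group G] [Finite G] {p : ℕ} [Fact p.Prime] {N Q : Subgroup G} [N.Normal]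
    (hN : N.index.Coprime p) (hQ : IsPGroup p Q) : Q ≤ N := by
  intro x hx
  obtain ⟨k, hk⟩ := hQ ⟨x, hx⟩
  have h1 : x ^ p ^ k = 1 := by simpa using congrArg Subtype.val hk
  have h2 : (QuotientGroup.mk' N x) ^ p ^ k = 1 := by rw [← map_pow, h1, map_one]
  have h3 : (QuotientGroup.mk' N x) ^ N.index = 1 := by
    rw [← map_pow]
    exact (QuotientGroup.eq_one_iff _).2 (N.pow_index_mem x)
  have h4 : orderOf (QuotientGroup.mk' N x) ∣ 1 := by
    have h5 : (p ^ k).Coprime N.index := Nat.Coprime.pow_left _ hN.symm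
    rw [← Nat.Coprime.gcd_eq_one h5]
    exact Nat.dvd_gcd (orderOf_dvd_of_pow_eq_one h2) (orderOf_dvd_of_pow_eq_one h3)
  rw [Nat.dvd_one, orderOf_eq_one_iff] at h4
  exact (QuotientGroup.eq_one_iff x).1 h4

/-- a group with trivial `O_{p'}` and a central subgroup of order a power of `p` and index prime to `p` -/
theorem eq_top_of_central {C : Type*} [Group C] [Finite C] {p : ℕ} [Fact p.Prime] {Z : Subgroup C}
    (hZ : Z ≤ center C) (hZp : IsPGroup p Z) (hidx : Z.index.Coprime p) (hcore : pPrimeCore p C = ⊥) : Z = ⊤ := by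
  have hZn : Z.Normal := ⟨fun z hz g => by
    rw [(mem_center_iff.1 (hZ hz) g), mul_inv_cancel_right]; exact hz⟩
  have hcop : (Nat.card Z).Coprime Z.index := by
    obtain ⟨n, hn⟩ := IsPGroup.iff_card.1 hZp
    rw [hn]
    exact Nat.Coprime.pow_left _ hidx.symm
  obtain ⟨H, hH⟩ := Subgroup.exists_right_complement'_of_coprime hcop
  have hHn : H.Normal := by
    refine ⟨fun x hx g => ?_⟩
    obtain ⟨⟨⟨z, hz⟩, ⟨h, hh⟩⟩, hg⟩ := hH.2 g
    change z * h = g at hg
    have h1 : g * x * g⁻¹ = h * x * h⁻¹ := by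
      have h2 := mem_center_iff.1 (hZ hz) (h * x * h⁻¹)
      rw [← hg, mul_inv_rev]
      calc z * h * x * (h⁻¹ * z⁻¹) = z * (h * x * h⁻¹) * z⁻¹ := by group
        _ = (h * x * h⁻¹) * z * z⁻¹ := by rw [h2]
        _ = h * x * h⁻¹ := by group
    rw [h1]
    exact H.mul_mem (H.mul_mem hh hx) (H.inv_mem hh)
  have hHc : (Nat.card H).Coprime p := by
    rw [← hH.symm.index_eq_card]
    exact hidx
  have hHb : H = ⊥ := by
    rw [eq_bot_iff, ← hcore]
    exact le_pPrimeCore hHn hHc
  rw [hHb] at hH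
  exact isComplement'_bot_right.1 hH

theorem isPConstrained_of_normal {Γ : Type*} [Group Γ] [Finite Γ] {p : ℕ} [Fact p.Prime] (N : Subgroup Γ) [N.Normal]
    (hidx : N.index.Coprime p) (hN : IsPConstrained p N) : IsPConstrained p Γ := by
  set X := pPrimeCore p Γ with hX
  have hXn : X.Normal := Cfsg.Agent.Lib.Cores.pPrimeCore_normal p
  have hXc : (Nat.card X).Coprime p := pPrimeCore_coprime p
  set f : Γ →* Γ ⧸ X := QuotientGroup.mk' X with hf
  have hfs : Function.Surjective f := QuotientGroup.mk'_surjective X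
  rw [PLocal.PConstrained.isPConstrained_iff_of_surjective f hfs (by rw [hf, QuotientGroup.ker_mk']; exact hXc)]
  have hbot : pPrimeCore p (Γ ⧸ X) = ⊥ := pPrimeCore_quotient_pPrimeCore p
  rw [PLocal.PConstrained.isPConstrained_iff_of_pPrimeCore_eq_bot hbot]
  -- the image of `N`
  set N' : Subgroup (Γ ⧸ X) := N.map f with hN'
  have hN'n : N'.Normal := Normal.map inferInstance f hfs
  have hidx' : N'.index.Coprime p := Nat.Coprime.coprime_dvd_left (index_map_dvd N hfs) hidx
  have hcon : IsPConstrained p N' := by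
    refine (PLocal.PConstrained.isPConstrained_iff_of_surjective (f.subgroupMap N)
      (f.subgroupMap_surjective N) ?_).1 hN
    refine Nat.Coprime.coprime_dvd_left ?_ hXc
    have h1 : ((f.subgroupMap N).ker).map N.subtype ≤ X := by
      rintro _ ⟨x, hx, rfl⟩
      have h2 : f x = 1 := congrArg Subtype.val hx
      exact (QuotientGroup.eq_one_iff _).1 h2
    have h2 := card_dvd_of_le h1
    rwa [card_map_of_injective N.subtype_injective] at h2
  have hcore : pPrimeCore p N' = ⊥ := by
    have h1 := map_subtype_pPrimeCore p hN'n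
    rw [hbot, inf_bot_eq] at h1
    exact (Subgroup.map_eq_bot_iff_of_injective _ N'.subtype_injective).1 h1
  rw [PLocal.PConstrained.isPConstrained_iff_of_pPrimeCore_eq_bot hcore] at hcon
  set Q := pCore p (Γ ⧸ X) with hQ
  have hQn : Q.Normal := Cfsg.Agent.Lib.Cores.pCore_normal p
  have hQp : IsPGroup p Q := pCore_isPGroup p
  have hQN : Q ≤ N' := le_of_isPGroup hidx' hQp
  have hQ' : (pCore p N').map N'.subtype = Q := by
    rw [map_subtype_pCore p hN'n]
    exact inf_of_le_right hQN
  set C := centralizer (Q : Set (Γ ⧸ X)) with hC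
  have hCn : C.Normal := normal_centralizer
  have hCN : C ⊓ N' ≤ Q := by
    rintro x ⟨hxC, hxN⟩
    have h1 : (⟨x, hxN⟩ : N') ∈ centralizer (pCore p N' : Set N') := by
      rw [mem_centralizer_iff]
      intro y hy
      apply Subtype.ext
      refine mem_centralizer_iff.1 hxC y ?_
      rw [SetLike.mem_coe, ← hQ']
      exact ⟨y, hy, rfl⟩
    rw [← hQ']
    exact ⟨_, hcon h1, rfl⟩
  -- the central Sylow subgroup
  set Z : Subgroup C := N'.subgroupOf C with hZ
  have hZtop : Z = ⊤ := by
    refine eq_top_of_central (p := p) ?_ ?_ ?_ ?_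
    · intro z hz
      rw [mem_center_iff]
      intro g
      apply Subtype.ext
      have h1 : (z : Γ ⧸ X) ∈ Q := hCN ⟨z.2, hz⟩
      exact (mem_centralizer_iff.1 g.2 z h1).symm
    · have h1 : Z.map C.subtype ≤ Q := by
        rintro _ ⟨z, hz, rfl⟩
        exact hCN ⟨z.2, hz⟩
      have h2 := hQp.to_le h1
      exact h2.of_equiv (Z.equivMapOfInjective _ C.subtype_injective).symm
    · refine Nat.Coprime.coprime_dvd_left ?_ hidx'
      exact relIndex_dvd_index_of_normal N' C
    · have h1 := map_subtype_pPrimeCore p hCn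
      rw [hbot, inf_bot_eq] at h1
      exact (Subgroup.map_eq_bot_iff_of_injective _ C.subtype_injective).1 h1
  intro x hx
  have h1 : (⟨x, hx⟩ : C) ∈ Z := by rw [hZtop]; exact mem_top _
  exact hCN ⟨hx, h1⟩

end Cfsg.Agent.H220.ZjCon
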