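import Cfsg.Agent.H220.ZjRed
import Cfsg.Agent.H220.ZjCon
import Cfsg.Agent.PLocal.ZJReduction
import Cfsg.Agent.PLocal.ThompsonJA
import Cfsg.Agent.S0653
import Cfsg.Agent.S0667

/-!
`G = O_{p'}(G) N_G(Z(J(S)))` for `p`-constrained groups with coprime operators whose fixed points have no section
`PSL₂(p)` (S3260).
-/

set_option autoImplicit false

namespace Cfsg.Agent.H220.ZjAsm

open Cfsg Subgroup
open Cfsg.Agent.PLocal.StableOfNotInvolves (Inv)

theorem sup_normalizer_eq_top {G : Type*} [Group G] [Finite G] {p : ℕ} [Fact p.Prime] (hp : 5 ≤ p)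
    (hG : IsPConstrained p G) (S : Sylow p G) (A : Subgroup (MulAut G)) (hA : (Nat.card A).Coprime (Nat.card G))
    (C : Subgroup G) (hC : ∀ g : G, g ∈ C ↔ ∀ a ∈ A, a g = g)
    (hfix : ¬ Inv C (Matrix.ProjectiveSpecialLinearGroup (Fin 2) (ZMod p))) :
    pPrimeCore p G ⊔ normalizer (centerThompsonAOf (S : Subgroup G) : Set G) = ⊤ := by
  by_cases hpG : p ∣ Nat.card G
  swap
  · have h1 : pPrimeCore p G = ⊤ := by
      rw [Lib.Cores.pPrimeCore_eq_top_iff, Nat.coprime_comm, Nat.Prime.coprime_iff_not_dvd Fact.out]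
      exact hpG
    rw [h1, top_sup_eq]
  have hpA : (Nat.card A).Coprime p := Nat.Coprime.coprime_dvd_right hpG hA
  let Γ := G ⋊[A.subtype] A
  have hfinΓ : Finite Γ := Finite.of_equiv (G × A) SemidirectProduct.equivProd.symm
  let iG : G →* Γ := SemidirectProduct.inl
  let iA : A →* Γ := SemidirectProduct.inr
  have hiG : Function.Injective iG := SemidirectProduct.inl_injective
  have hiA : Function.Injective iA := SemidirectProduct.inr_injective
  set N : Subgroup Γ := iG.range with hN
  set A' : Subgroup Γ := iA.range with hA'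
  have hNn : N.Normal := by
    change (SemidirectProduct.inl : G →* Γ).range.Normal
    rw [SemidirectProduct.range_inl_eq_ker_rightHom]
    infer_instance
  have hcardN : Nat.card N = Nat.card G := Nat.card_congr (MonoidHom.ofInjective hiG).toEquiv.symm
  have hcardA : Nat.card A' = Nat.card A := Nat.card_congr (MonoidHom.ofInjective hiA).toEquiv.symm
  have hcop : (Nat.card A').Coprime (Nat.card N) := by rw [hcardN, hcardA]; exact hA
  have hpA' : (Nat.card A').Coprime p := by rw [hcardA]; exact hpA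
  have hsup : N ⊔ A' = ⊤ := by
    rw [eq_top_iff]
    intro x _
    rw [← SemidirectProduct.inl_left_mul_inr_right x]
    exact mul_mem (mem_sup_left ⟨_, rfl⟩) (mem_sup_right ⟨_, rfl⟩)
  have hidx : N.index.Coprime p := by
    refine Nat.Coprime.coprime_dvd_left ?_ hpA'
    rw [← relIndex_top_right, ← hsup, relIndex_sup_left]
    exact relIndex_dvd_card _ _
  have hconj : ∀ (a : A) (g : G), iA a * iG g * (iA a)⁻¹ = iG ((a : MulAut G) g) := by
    intro a g
    have := SemidirectProduct.inl_aut (φ := A.subtype) a g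
    change iG ((a : MulAut G) g) = iA a * iG g * iA a⁻¹ at this
    rw [this, map_inv]
  have hinv : ¬ Inv ↥(N ⊓ centralizer (A' : Set Γ)) (Matrix.ProjectiveSpecialLinearGroup (Fin 2) (ZMod p)) := by
    intro h
    apply hfix
    refine h.of_surjective ((iG.comp C.subtype).codRestrict (N ⊓ centralizer (A' : Set Γ)) ?_) ?_
    · rintro ⟨c, hc⟩
      refine ⟨⟨c, rfl⟩, ?_⟩
      change iG c ∈ centralizer (A' : Set Γ)
      rw [mem_centralizer_iff]
      rintro _ ⟨a, rfl⟩
      have h1 := hconj a c
      rw [(hC c).1 hc a a.2, mul_inv_eq_iff_eq_mul] at h1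
      exact h1
    · rintro ⟨x, ⟨g, rfl⟩, hx⟩
      refine ⟨⟨g, (hC g).2 fun a ha => ?_⟩, rfl⟩
      have h1 := hconj ⟨a, ha⟩ g
      have h2 := mem_centralizer_iff.1 hx (iA ⟨a, ha⟩) ⟨_, rfl⟩
      rw [h2, mul_inv_cancel_right] at h1
      exact (hiG h1).symm
  have hconN : IsPConstrained p N :=
    (PLocal.PConstrained.isPConstrained_congr (MonoidHom.ofInjective hiG)).1 hG
  have hconΓ : IsPConstrained p Γ := ZjCon.isPConstrained_of_normal N hidx hconN
  -- the Sylow subgroup
  obtain ⟨S', hS'⟩ := (S.isPGroup'.map iG).exists_le_sylow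
  have hS'N : (S' : Subgroup Γ) ≤ N := ZjCon.le_of_isPGroup hidx S'.isPGroup'
  have hSS' : (S : Subgroup G).map iG = S' := by
    have h1 : (S' : Subgroup Γ).comap iG = S := by
      refine S.3 (S'.isPGroup'.comap_of_injective iG hiG) ?_
      rw [← map_le_iff_le_comap]
      exact hS'
    rw [← h1, map_comap_eq]
    exact inf_of_le_right hS'N
  set Z := centerThompsonAOf (S : Subgroup G) with hZ
  have hZS' : centerThompsonAOf (S' : Subgroup Γ) = Z.map iG := by
    rw [hZ, PLocal.ThompsonJA.map_centerThompsonAOf iG hiG, hSS']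
  set X := pPrimeCore p Γ with hX
  have hXn : X.Normal := Cfsg.Agent.Lib.Cores.pPrimeCore_normal p
  have hXc : (Nat.card X).Coprime p := Lib.Cores.pPrimeCore_coprime p
  have hchar := S0653.result (p := p) (by omega) (PLocal.ZJReduction.centralizer_pCore_quotient_le hconΓ)
    (fun P hP hPp => ZjRed.isPStableOn_of_action hp N A' hcop hpA' hsup hinv (QuotientGroup.mk' X)
      (QuotientGroup.mk'_surjective X) P hPp)
    (S'.mapSurjective (QuotientGroup.mk'_surjective X))
  have hnorm := @Subgroup.normal_of_characteristic _ _ _ hchar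
  rw [Sylow.coe_mapSurjective, ← S0667.map_centerThompsonAOf_of_inf_ker] at hnorm
  swap
  · rw [QuotientGroup.ker_mk']
    exact PLocal.ZJReduction.inf_eq_bot hXc S'.isPGroup'
  have h1 := hnorm.comap (QuotientGroup.mk' X)
  rw [comap_map_eq, QuotientGroup.ker_mk', sup_comm, hZS'] at h1
  have h2 := h1.comap iG
  set K := X.comap iG with hK
  have hKZ : (X ⊔ Z.map iG).comap iG = K ⊔ Z := by
    apply le_antisymm
    · intro g hg
      rw [mem_comap] at hg
      obtain ⟨x, hx, y, ⟨z, hz, rfl⟩, hxy⟩ := mem_sup_of_normal_left.1 hg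
      have h3 : g * z⁻¹ ∈ K := by
        rw [hK, mem_comap, map_mul, map_inv, ← hxy, mul_inv_cancel_right]
        exact hx
      have h4 : g = g * z⁻¹ * z := by group
      rw [h4]
      exact mul_mem (mem_sup_left h3) (mem_sup_right hz)
    · refine sup_le (comap_mono le_sup_left) ?_
      rw [← map_le_iff_le_comap]
      exact le_sup_right
  rw [hKZ] at h2
  have hKn : K.Normal := hXn.comap iG
  have hKc : (Nat.card K).Coprime p := by
    refine Nat.Coprime.coprime_dvd_left ?_ hXc
    rw [← card_map_of_injective hiG]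
    exact card_dvd_of_le (map_comap_le _ _)
  have hZp : IsPGroup p Z := by
    refine S.isPGroup'.to_le ?_
    refine inf_le_left.trans ?_
    exact map_subtype_le _
  have h5 := PLocal.ZJReduction.sup_normalizer_eq_top hKn hKc hZp h2
  rw [eq_top_iff, ← h5]
  exact sup_le_sup_right (Lib.Cores.le_pPrimeCore hKn hKc) _

end Cfsg.Agent.H220.ZjAsm
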