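import Cfsg.Agent.H742.SigmaRoot
import Cfsg.Agent.H742.CoreOf

/-!
Quadratic elements of a linear group and elements normalizing the group (S3260): conjugation, the diagonal torus
`tau c` of an inverse pair, the group of elements stabilizing the flag `range s ≤ ker s`.
-/

set_option autoImplicit false

namespace Cfsg.Agent.H220.Zj

open Cfsg Cfsg.Agent.H740 Cfsg.Agent.H742 Cfsg.Agent.H731

variable {k : Type*} [Field k] {M : Type*} [AddCommGroup M] [Module k M]
variable {G : Subgroup (LinearMap.GeneralLinearGroup k M)}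

/-! ### Conjugation -/

theorem conjL_mul_mul (g : LinearMap.GeneralLinearGroup k M) (x y : M →ₗ[k] M) :
    conjL g (x * y) = conjL g x * conjL g y := by
  simp only [conjL_apply]
  have h : ((g⁻¹ : LinearMap.GeneralLinearGroup k M) : M →ₗ[k] M) * (g : M →ₗ[k] M) = 1 := Units.inv_mul g
  calc (g : M →ₗ[k] M) * (x * y) * ((g⁻¹ : LinearMap.GeneralLinearGroup k M) : M →ₗ[k] M)
      = (g : M →ₗ[k] M) * x * 1 * y * ((g⁻¹ : LinearMap.GeneralLinearGroup k M) : M →ₗ[k] M) := by
        simp only [mul_assoc, one_mul]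
    _ = _ := by rw [← h]; simp only [mul_assoc]

theorem conjL_one (g : LinearMap.GeneralLinearGroup k M) : conjL g (1 : M →ₗ[k] M) = 1 := by
  rw [conjL_apply, mul_one, Units.mul_inv]

theorem conjL_one_left (x : M →ₗ[k] M) : conjL (1 : LinearMap.GeneralLinearGroup k M) x = x := by
  rw [conjL_apply, inv_one, Units.val_one, one_mul, mul_one]

theorem conjL_conjL_inv (g : LinearMap.GeneralLinearGroup k M) (y : M →ₗ[k] M) : conjL g (conjL g⁻¹ y) = y := by
  rw [← conjL_mul, mul_inv_cancel, conjL_one_left]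

/-- a linear map commutes with `g` iff it is fixed -/
theorem conjL_eq_iff (g : LinearMap.GeneralLinearGroup k M) (x y : M →ₗ[k] M) :
    conjL g x = y ↔ (g : M →ₗ[k] M) * x = y * g := by
  rw [conjL_apply]
  constructor
  · rintro rfl
    rw [mul_assoc, Units.inv_mul, mul_one]
  · intro h
    rw [h, mul_assoc, Units.mul_inv, mul_one]

theorem conjL_ne_zero {g : LinearMap.GeneralLinearGroup k M} {x : M →ₗ[k] M} (hx : x ≠ 0) : conjL g x ≠ 0 := by
  intro h
  apply hx
  rw [← conjL_inv_conjL g x, h, map_zero]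

theorem Inv_conj {s t : M →ₗ[k] M} (h : Inv s t) (g : LinearMap.GeneralLinearGroup k M) :
    Inv (conjL g s) (conjL g t) where
  ss := by rw [← conjL_mul_mul, h.ss, map_zero]
  tt := by rw [← conjL_mul_mul, h.tt, map_zero]
  sts := by rw [← conjL_mul_mul, ← conjL_mul_mul, h.sts]
  tst := by rw [← conjL_mul_mul, ← conjL_mul_mul, h.tst]

theorem Same_conj {s t : M →ₗ[k] M} (h : Same s t) (g : LinearMap.GeneralLinearGroup k M) :
    Same (conjL g s) (conjL g t) := by
  refine ⟨?_, ?_⟩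
  · rw [conjL_apply, conjL_apply, ker_conj, ker_conj, h.1]
  · rw [conjL_apply, conjL_apply, range_conj, range_conj, h.2]

theorem ker_conjL (g : LinearMap.GeneralLinearGroup k M) (x : M →ₗ[k] M) :
    LinearMap.ker (conjL g x) = (LinearMap.ker x).map (g : M →ₗ[k] M) := by
  rw [conjL_apply, ker_conj]

theorem range_conjL (g : LinearMap.GeneralLinearGroup k M) (x : M →ₗ[k] M) :
    LinearMap.range (conjL g x) = (LinearMap.range x).map (g : M →ₗ[k] M) := by
  rw [conjL_apply, range_conj]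

theorem QIn_conj {s : M →ₗ[k] M} (h : QIn G s) {g : LinearMap.GeneralLinearGroup k M}
    (hg : ∀ x ∈ G, g * x * g⁻¹ ∈ G) : QIn G (conjL g s) := by
  rw [conjL_apply]; exact h.conj_of_normalizes hg

/-- the inverse of an element is unique in a class -/
theorem Inv.unique {s t t' : M →ₗ[k] M} (h : Inv s t) (h' : Inv s t') (hs : Same t t') : t = t' := by
  -- `s t` and `s t'` are the projection onto `range s` along `ker t`
  have h1 : t * s = t' * s := by
    ext m
    -- `t s m - t' s m ∈ range t ∩ ker s`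
    have hm : t (s m) - t' (s m) ∈ LinearMap.range t ⊓ LinearMap.ker s := by
      refine ⟨Submodule.sub_mem _ ⟨_, rfl⟩ (by rw [hs.2]; exact ⟨_, rfl⟩), ?_⟩
      change s (t (s m) - t' (s m)) = 0
      rw [map_sub]
      have e1 := congrArg (fun f : M →ₗ[k] M => f m) h.sts
      have e2 := congrArg (fun f : M →ₗ[k] M => f m) h'.sts
      change s (t (s m)) = s m at e1
      change s (t' (s m)) = s m at e2
      rw [e1, e2, sub_self]
    rw [h.symm.inf_eq_bot, Submodule.mem_bot, sub_eq_zero] at hm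
    exact hm
  have h2 : t' * s * t = t' := by
    rw [mul_assoc]
    exact h.mul_st hs.1.le
  rw [← h.tst, h1, h2]

section fd
variable [FiniteDimensional k M]

theorem IsMin_conj {s : M →ₗ[k] M} (h : IsMin G s) {g : LinearMap.GeneralLinearGroup k M}
    (hg : ∀ x ∈ G, g * x * g⁻¹ ∈ G) : IsMin G (conjL g s) := by
  refine h.of_finrank_le (QIn_conj h.1 hg) (conjL_ne_zero h.ne_zero) ?_
  rw [range_conjL]
  exact Submodule.finrank_map_le _ _

end fd

/-! ### The torus of an inverse pair -/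

/-- diagonal matrix -/
def dg (c : k) (hc : c ≠ 0) : Matrix.SpecialLinearGroup (Fin 2) k :=
  ⟨!![c, 0; 0, c⁻¹], by rw [Matrix.det_fin_two_of, mul_inv_cancel₀ hc]; ring⟩

theorem dg_mul (c d : k) (hc : c ≠ 0) (hd : d ≠ 0) : dg c hc * dg d hd = dg (c * d) (mul_ne_zero hc hd) := by
  apply Subtype.ext
  rw [Matrix.SpecialLinearGroup.coe_mul]
  change !![c, 0; 0, c⁻¹] * !![d, 0; 0, d⁻¹] = !![c * d, 0; 0, (c * d)⁻¹]
  rw [Matrix.mul_fin_two, mul_inv]
  congr 1
  simp

theorem dg_one : dg (1 : k) one_ne_zero = 1 := by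
  apply Subtype.ext
  change !![(1 : k), 0; 0, (1 : k)⁻¹] = 1
  rw [inv_one, Matrix.one_fin_two]

theorem dg_congr {c d : k} (hc : c ≠ 0) (hd : d ≠ 0) (h : c = d) : dg c hc = dg d hd := by subst h; rfl

theorem dg_pow (c : k) (hc : c ≠ 0) (n : ℕ) : (dg c hc) ^ n = dg (c ^ n) (pow_ne_zero n hc) := by
  induction n with
  | zero => rw [pow_zero, dg_congr (pow_ne_zero 0 hc) one_ne_zero (pow_zero c), dg_one]
  | succ n ih =>
    rw [pow_succ, ih, dg_mul]
    exact dg_congr _ _ (pow_succ c n).symm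

theorem dg_inv (c : k) (hc : c ≠ 0) : (dg c hc)⁻¹ = dg c⁻¹ (inv_ne_zero hc) := by
  rw [inv_eq_iff_mul_eq_one, dg_mul, dg_congr _ one_ne_zero (mul_inv_cancel₀ hc), dg_one]

/-- the torus element of an inverse pair: `c` on `range s`, `c⁻¹` on `range t`, `1` on `ker s ⊓ ker t` -/
noncomputable def tau {s t : M →ₗ[k] M} (h : Inv s t) (c : k) (hc : c ≠ 0) : LinearMap.GeneralLinearGroup k M :=
  h.slHom (dg c hc)

theorem coe_tau {s t : M →ₗ[k] M} (h : Inv s t) (c : k) (hc : c ≠ 0) :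
    (tau h c hc : M →ₗ[k] M) = 1 + (c - 1) • (s * t) + (c⁻¹ - 1) • (t * s) := by
  unfold tau
  rw [h.coe_slHom, slMap]
  have h00 : (dg c hc : Matrix (Fin 2) (Fin 2) k) 0 0 = c := rfl
  have h01 : (dg c hc : Matrix (Fin 2) (Fin 2) k) 0 1 = 0 := rfl
  have h10 : (dg c hc : Matrix (Fin 2) (Fin 2) k) 1 0 = 0 := rfl
  have h11 : (dg c hc : Matrix (Fin 2) (Fin 2) k) 1 1 = c⁻¹ := rfl
  rw [h00, h01, h10, h11]
  module

theorem tau_inv {s t : M →ₗ[k] M} (h : Inv s t) (c : k) (hc : c ≠ 0) :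
    (tau h c hc)⁻¹ = tau h c⁻¹ (inv_ne_zero hc) := by
  unfold tau
  rw [← map_inv, dg_inv]

theorem tau_pow {s t : M →ₗ[k] M} (h : Inv s t) (c : k) (hc : c ≠ 0) (n : ℕ) (hn : c ^ n = 1) :
    (tau h c hc) ^ n = 1 := by
  unfold tau
  rw [← map_pow, dg_pow, dg_congr _ one_ne_zero hn, dg_one, map_one]

/-- the image of `SL₂(k)` lies in `G` -/
theorem slHom_mem {s t : M →ₗ[k] M} (h : Inv s t) (hs : QIn G s) (ht : QIn G t)
    (g : Matrix.SpecialLinearGroup (Fin 2) k) : h.slHom g ∈ G := by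
  have h1 : (⊤ : Subgroup (Matrix.SpecialLinearGroup (Fin 2) k)) ≤ G.comap h.slHom := by
    rw [← lower_sup_upper, sup_le_iff]
    constructor
    · intro x hx
      obtain ⟨c, rfl⟩ := mem_lower_iff.1 hx
      exact ht.mem_of_coe (h.slHom_lo c)
    · intro x hx
      obtain ⟨c, rfl⟩ := mem_upper_iff.1 hx
      exact hs.mem_of_coe (h.slHom_up c)
  exact h1 (Subgroup.mem_top g)

theorem tau_mem {s t : M →ₗ[k] M} (h : Inv s t) (hs : QIn G s) (ht : QIn G t) (c : k) (hc : c ≠ 0) :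
    tau h c hc ∈ G := slHom_mem h hs ht _

theorem s_mul_tau {s t : M →ₗ[k] M} (h : Inv s t) (c : k) (hc : c ≠ 0) :
    s * (tau h c hc : M →ₗ[k] M) = c⁻¹ • s := by
  rw [coe_tau, mul_add, mul_add, mul_one, mul_smul_comm, mul_smul_comm, ← mul_assoc, ← mul_assoc, h.ss, zero_mul,
    smul_zero, add_zero, h.sts]
  module

theorem tau_mul_s {s t : M →ₗ[k] M} (h : Inv s t) (c : k) (hc : c ≠ 0) :
    (tau h c hc : M →ₗ[k] M) * s = c • s := by
  rw [coe_tau, add_mul, add_mul, one_mul, smul_mul_assoc, smul_mul_assoc, h.sts, mul_assoc t s s, h.ss, mul_zero,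
    smul_zero, add_zero]
  module

/-- conjugation of the torus -/
theorem conj_tau {s t : M →ₗ[k] M} (h : Inv s t) (g : LinearMap.GeneralLinearGroup k M) (c : k) (hc : c ≠ 0) :
    g * tau h c hc * g⁻¹ = tau (Inv_conj h g) c hc := by
  apply Units.ext
  rw [coe_tau, ← conjL_mul_mul, ← conjL_mul_mul, ← map_smul, ← map_smul]
  nth_rewrite 1 [← conjL_one g]
  rw [← map_add, ← map_add, ← coe_tau h c hc, conjL_apply]
  rfl

theorem tau_congr {s t t' : M →ₗ[k] M} (h : Inv s t) (h' : Inv s t') (ht : t = t') (c : k) (hc : c ≠ 0) :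
    tau h c hc = tau h' c hc := by subst ht; rfl

/-- an inverse pair is determined by the torus element -/
theorem eq_of_tau_eq {s t t' : M →ₗ[k] M} (h : Inv s t) (h' : Inv s t') (c : k) (hc : c ≠ 0) (hc1 : c ≠ 1)
    (hc2 : c * c ≠ 1) (he : tau h c hc = tau h' c hc) : t = t' := by
  have key : ∀ {t : M →ₗ[k] M} (h : Inv s t), ((tau h c hc : M →ₗ[k] M) - 1) * ((tau h c hc : M →ₗ[k] M) - c • 1) =
      ((c⁻¹ - 1) * (c⁻¹ - c)) • (t * s) := by
    intro t h
    rw [coe_tau]
    have e1 : (s * t) * (s * t) = s * t := by rw [← mul_assoc, h.sts]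
    have e2 : (t * s) * (t * s) = t * s := by rw [← mul_assoc, h.tst]
    have e3 : (s * t) * (t * s) = 0 := by rw [mul_assoc, ← mul_assoc t t s, h.tt, zero_mul, mul_zero]
    have e4 : (t * s) * (s * t) = 0 := by rw [mul_assoc, ← mul_assoc s s t, h.ss, zero_mul, mul_zero]
    generalize s * t = P at *
    generalize t * s = Q at *
    have e5 : (1 + (c - 1) • P + (c⁻¹ - 1) • Q - 1) * (1 + (c - 1) • P + (c⁻¹ - 1) • Q - c • 1) =
        (c - 1) • P + (c⁻¹ - 1) • Q + ((c - 1) * (c - 1)) • (P * P) + ((c - 1) * (c⁻¹ - 1)) • (P * Q) +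
          ((c⁻¹ - 1) * (c - 1)) • (Q * P) + ((c⁻¹ - 1) * (c⁻¹ - 1)) • (Q * Q) -
          (c * (c - 1)) • P - (c * (c⁻¹ - 1)) • Q := by
      simp only [add_mul, mul_add, sub_mul, mul_sub, one_mul, mul_one, smul_mul_assoc, mul_smul_comm, smul_smul,
        smul_add, smul_sub]
      module
    rw [e5, e1, e2, e3, e4]
    module
  have h1 := key h
  rw [he, key h'] at h1
  have hne : (c⁻¹ - 1) * (c⁻¹ - c) ≠ 0 := by
    refine mul_ne_zero ?_ ?_
    · intro h2
      apply hc1
      have h3 : c⁻¹ = 1 := sub_eq_zero.1 h2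
      rw [inv_eq_one] at h3
      exact h3
    · intro h2
      apply hc2
      have h3 : c⁻¹ = c := sub_eq_zero.1 h2
      nth_rewrite 1 [← h3]
      exact inv_mul_cancel₀ hc
  have h2 : t' * s = t * s := smul_right_injective _ hne h1
  -- `s t = s t'` as well
  have h4 : s * t = s * t' := by
    have h5 := congrArg Units.val he
    rw [coe_tau, coe_tau, h2] at h5
    have h6 : (c - 1) • (s * t) = (c - 1) • (s * t') := by
      have := add_right_cancel h5
      exact add_left_cancel this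
    exact smul_right_injective _ (sub_ne_zero.2 hc1) h6
  calc t = t * s * t := h.tst.symm
    _ = t' * s * t := by rw [h2]
    _ = t' * (s * t) := by rw [mul_assoc]
    _ = t' * s * t' := by rw [h4, mul_assoc]
    _ = t' := h'.tst

/-! ### The flag group -/

/-- elements of `G` stabilizing the flag `range s ≤ ker s` -/
def UG (G : Subgroup (LinearMap.GeneralLinearGroup k M)) (s : M →ₗ[k] M) (hs : s * s = 0) :
    Subgroup (LinearMap.GeneralLinearGroup k M) := G ⊓ flagStab (range_le_ker_of_mul hs)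

theorem conjL_of_mem_UG {s : M →ₗ[k] M} {hs : s * s = 0} {u : LinearMap.GeneralLinearGroup k M} (hu : u ∈ UG G s hs) :
    conjL u s = s := by
  rw [conjL_eq_iff]
  obtain ⟨h1, h2, h3⟩ := hu.2
  ext m
  rw [Module.End.mul_apply, Module.End.mul_apply, h3 _ ⟨m, rfl⟩]
  have h4 := h1 m
  rw [LinearMap.mem_ker, map_sub, sub_eq_zero] at h4
  exact h4.symm

/-- elements preserving the kernel and the range of `s` normalize the flag group -/
theorem conj_mem_UG {s : M →ₗ[k] M} {hs : s * s = 0} {g : LinearMap.GeneralLinearGroup k M}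
    (hg : ∀ x ∈ G, g * x * g⁻¹ ∈ G) (hS : Same (conjL g s) s) {u : LinearMap.GeneralLinearGroup k M}
    (hu : u ∈ UG G s hs) : g * u * g⁻¹ ∈ UG G s hs := by
  refine ⟨hg u hu.1, ?_⟩
  obtain ⟨h1, h2, h3⟩ := hu.2
  have hk : (LinearMap.ker s).map (g : M →ₗ[k] M) = LinearMap.ker s := by rw [← ker_conjL]; exact hS.1
  have hr : (LinearMap.range s).map (g : M →ₗ[k] M) = LinearMap.range s := by rw [← range_conjL]; exact hS.2
  have hinv : ∀ m : M, (g : M →ₗ[k] M) (((g⁻¹ : LinearMap.GeneralLinearGroup k M) : M →ₗ[k] M) m) = m := by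
    intro m
    rw [← Module.End.mul_apply, Units.mul_inv, Module.End.one_apply]
  have hinv' : ∀ m : M, ((g⁻¹ : LinearMap.GeneralLinearGroup k M) : M →ₗ[k] M) ((g : M →ₗ[k] M) m) = m := by
    intro m
    rw [← Module.End.mul_apply, Units.inv_mul, Module.End.one_apply]
  have hk' : ∀ m ∈ LinearMap.ker s, ((g⁻¹ : LinearMap.GeneralLinearGroup k M) : M →ₗ[k] M) m ∈ LinearMap.ker s := by
    intro m hm
    rw [← hk] at hm
    obtain ⟨n, hn, rfl⟩ := hm
    rw [hinv']; exact hn
  have hr' : ∀ m ∈ LinearMap.range s, ((g⁻¹ : LinearMap.GeneralLinearGroup k M) : M →ₗ[k] M) m ∈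
      LinearMap.range s := by
    intro m hm
    rw [← hr] at hm
    obtain ⟨n, hn, rfl⟩ := hm
    rw [hinv']; exact hn
  have key : ∀ m : M, ((g * u * g⁻¹ : LinearMap.GeneralLinearGroup k M) : M →ₗ[k] M) m - m =
      (g : M →ₗ[k] M) ((u : M →ₗ[k] M) (((g⁻¹ : LinearMap.GeneralLinearGroup k M) : M →ₗ[k] M) m) -
        ((g⁻¹ : LinearMap.GeneralLinearGroup k M) : M →ₗ[k] M) m) := by
    intro m
    rw [map_sub, hinv]
    rfl
  refine ⟨fun m => ?_, fun m hm => ?_, fun m hm => ?_⟩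
  · rw [key, ← hk]
    exact ⟨_, h1 _, rfl⟩
  · rw [key, ← hr]
    exact ⟨_, h2 _ (hk' m hm), rfl⟩
  · rw [← sub_eq_zero, key, h3 _ (hr' m hm), sub_self, map_zero]

/-- the quotient of two torus elements -/
theorem tau_mul_inv_mem {s t t' : M →ₗ[k] M} (h : Inv s t) (h' : Inv s t') (hs : QIn G s) (ht : QIn G t)
    (ht' : QIn G t') (c : k) (hc : c ≠ 0) : tau h' c hc * (tau h c hc)⁻¹ ∈ UG G s h.ss := by
  refine ⟨G.mul_mem (tau_mem h' hs ht' c hc) (G.inv_mem (tau_mem h hs ht c hc)), ?_⟩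
  have hker : ∀ {t : M →ₗ[k] M} (h : Inv s t) (c : k) (hc : c ≠ 0) (m : M), m ∈ LinearMap.ker s →
      (tau h c hc : M →ₗ[k] M) m - m ∈ LinearMap.range s := by
    intro t h c hc m hm
    rw [LinearMap.mem_ker] at hm
    rw [coe_tau]
    refine ⟨(c - 1) • t m, ?_⟩
    simp only [LinearMap.add_apply, LinearMap.smul_apply, Module.End.mul_apply, Module.End.one_apply, hm, map_zero,
      smul_zero, map_smul]
    abel
  have hle : LinearMap.range s ≤ LinearMap.ker s := range_le_ker_of_mul h.ss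
  rw [tau_inv]
  refine ⟨fun m => ?_, fun m hm => ?_, ?_⟩
  · rw [LinearMap.mem_ker, map_sub, sub_eq_zero]
    have h1 : s * ((tau h' c hc * tau h c⁻¹ (inv_ne_zero hc) : LinearMap.GeneralLinearGroup k M) : M →ₗ[k] M) = s := by
      rw [Units.val_mul, ← mul_assoc, s_mul_tau, smul_mul_assoc, s_mul_tau, smul_smul, inv_inv, inv_mul_cancel₀ hc,
        one_smul]
    exact congrArg (fun f : M →ₗ[k] M => f m) h1
  · have h1 := hker h c⁻¹ (inv_ne_zero hc) m hm
    have h2 : (tau h c⁻¹ (inv_ne_zero hc) : M →ₗ[k] M) m ∈ LinearMap.ker s := by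
      have := Submodule.add_mem _ (hle h1) hm
      rwa [sub_add_cancel] at this
    have h3 := hker h' c hc _ h2
    have e : ((tau h' c hc * tau h c⁻¹ (inv_ne_zero hc) : LinearMap.GeneralLinearGroup k M) : M →ₗ[k] M) m - m =
        ((tau h' c hc : M →ₗ[k] M) ((tau h c⁻¹ (inv_ne_zero hc) : M →ₗ[k] M) m) -
          (tau h c⁻¹ (inv_ne_zero hc) : M →ₗ[k] M) m) + ((tau h c⁻¹ (inv_ne_zero hc) : M →ₗ[k] M) m - m) := by
      rw [Units.val_mul, Module.End.mul_apply]
      abel
    rw [e]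
    exact Submodule.add_mem _ h3 h1
  · rintro _ ⟨m, rfl⟩
    have h1 : ((tau h' c hc * tau h c⁻¹ (inv_ne_zero hc) : LinearMap.GeneralLinearGroup k M) : M →ₗ[k] M) * s = s := by
      rw [Units.val_mul, mul_assoc, tau_mul_s, mul_smul_comm, tau_mul_s, smul_smul, inv_mul_cancel₀ hc, one_smul]
    exact congrArg (fun f : M →ₗ[k] M => f m) h1

/-- the torus element preserves kernel and range -/
theorem same_conj_tau {s t : M →ₗ[k] M} (h : Inv s t) (c : k) (hc : c ≠ 0) :
    Same (conjL (tau h c hc) s) s := by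
  have e : conjL (tau h c hc) s = (c * c) • s := by
    rw [conjL_apply, tau_mul_s, smul_mul_assoc, tau_inv, s_mul_tau, smul_smul, inv_inv]
  rw [e]
  exact ⟨LinearMap.ker_smul _ _ (mul_ne_zero hc hc), LinearMap.range_smul _ _ (mul_ne_zero hc hc)⟩

/-- the flag group has exponent dividing the characteristic -/
theorem pow_of_mem_UG {p : ℕ} [Fact p.Prime] [CharP k p] (hp : 3 ≤ p) {s : M →ₗ[k] M} {hs : s * s = 0}
    {u : LinearMap.GeneralLinearGroup k M} (hu : u ∈ UG G s hs) : u ^ p = 1 := by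
  obtain ⟨h1, h2, h3⟩ := hu.2
  have h4 : ((u : M →ₗ[k] M) - 1) ^ 3 = 0 := by
    ext m
    have e : ((u : M →ₗ[k] M) - 1) ^ 3 = ((u : M →ₗ[k] M) - 1) * (((u : M →ₗ[k] M) - 1) * ((u : M →ₗ[k] M) - 1)) := by
      rw [pow_succ', pow_two]
    rw [e]
    change ((u : M →ₗ[k] M) - 1) (((u : M →ₗ[k] M) - 1) (((u : M →ₗ[k] M) - 1) m)) = 0
    simp only [LinearMap.sub_apply, Module.End.one_apply]
    have h5 := h2 _ (h1 m)
    rw [h3 _ h5, sub_self]
  have h5 : ((u : M →ₗ[k] M) - 1) ^ p = 0 := pow_eq_zero_of_le hp h4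
  apply Units.ext
  rw [Units.val_pow_eq_pow_val, Units.val_one]
  by_cases hM : Nontrivial M
  · have hcp : CharP (M →ₗ[k] M) p := by
      have : CharP (Module.End k M) p := charP_of_injective_algebraMap (algebraMap k (Module.End k M)).injective p
      exact this
    have h6 : ((u : Module.End k M) - 1) ^ p = (u : Module.End k M) ^ p - 1 ^ p :=
      sub_pow_char_of_commute (p := p) (Commute.one_right _)
    rw [one_pow] at h6
    have h7 : (u : Module.End k M) ^ p - 1 = 0 := by rw [← h6]; exact h5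
    exact sub_eq_zero.1 h7
  · rw [not_nontrivial_iff_subsingleton] at hM
    ext m
    exact Subsingleton.elim _ _

end Cfsg.Agent.H220.Zj
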