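import Mathlib

/-!
Squares in a finite special Jordan division algebra of characteristic not two (S3260).

`Φ` is a finite additive subgroup of a ring, contains `1`, is closed under `x y x`, and its nonzero elements are units
of the ring: then at least a quarter of the nonzero elements of `Φ` are squares of elements of `Φ`.
-/

set_option autoImplicit false

namespace Cfsg.Agent.H220.ZjSq

open Polynomial

/-! ### Commutative part -/

section comm

variable {S : Type*} [CommRing S] [IsDomain S] [Finite S]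

/-- inverses in a subring of a finite domain -/
theorem exists_inv (L : Subring S) {b : S} (hb : b ∈ L) (hb0 : b ≠ 0) : ∃ c ∈ L, b * c = 1 := by
  have hf : IsField L := Finite.isField_of_domain L
  obtain ⟨c, hc⟩ := hf.mul_inv_cancel (a := ⟨b, hb⟩) (fun h => hb0 (congrArg Subtype.val h))
  exact ⟨c, c.2, congrArg Subtype.val hc⟩

theorem pow_card_mem (L : Subring S) {b : S} (hb : b ∈ L) : b ^ Nat.card L = b := by
  have hf : IsField L := Finite.isField_of_domain L
  let _ := hf.toField
  let _ : Fintype L := Fintype.ofFinite L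
  have h := FiniteField.pow_card (⟨b, hb⟩ : L)
  rw [← Nat.card_eq_fintype_card] at h
  exact congrArg Subtype.val h

theorem one_lt_card (L : Subring S) : 1 < Nat.card L := Finite.one_lt_card

omit [Finite S] in
/-- the fixed elements of a power map -/
theorem fixed_subset {q : ℕ} (hq : 1 < q) :
    ∃ F : Finset S, F.card ≤ q ∧ ∀ z : S, z ∈ F ↔ z ^ q = z := by
  classical
  have hne : (X ^ q - X : S[X]) ≠ 0 := by
    intro h
    have := congrArg (fun f : S[X] => f.coeff q) h
    simp [coeff_X, hq.ne] at this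
  refine ⟨(X ^ q - X : S[X]).roots.toFinset, ?_, ?_⟩
  · have h1 : Multiset.card (X ^ q - X : S[X]).roots ≤ (X ^ q - X : S[X]).natDegree := card_roots' _
    have h2 : (X ^ q - X : S[X]).natDegree ≤ q := by
      refine (natDegree_sub_le _ _).trans (max_le ?_ ?_)
      · rw [natDegree_X_pow]
      · rw [natDegree_X]; exact hq.le
    have h3 : (X ^ q - X : S[X]).roots.toFinset.card ≤ Multiset.card (X ^ q - X : S[X]).roots :=
      Multiset.toFinset_card_le _
    omega
  · intro z
    rw [Multiset.mem_toFinset, mem_roots hne, IsRoot.def, eval_sub, eval_pow, eval_X, sub_eq_zero]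

/-- a subring is the set of fixed points of a power map -/
theorem mem_iff_pow (L : Subring S) (z : S) : z ∈ L ↔ z ^ Nat.card L = z := by
  classical
  obtain ⟨F, hF, hm⟩ := fixed_subset (S := S) (one_lt_card L)
  constructor
  · exact fun hz => pow_card_mem L hz
  · intro hz
    have hLF : (Set.toFinite (L : Set S)).toFinset ⊆ F := by
      intro w hw
      rw [Set.Finite.mem_toFinset] at hw
      exact (hm w).2 (pow_card_mem L hw)
    have hc : (Set.toFinite (L : Set S)).toFinset.card = Nat.card L := by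
      rw [← Set.ncard_eq_toFinset_card, ← Nat.card_coe_set_eq]
      rfl
    have he := Finset.eq_of_subset_of_card_le hLF (by rw [hc]; exact hF)
    have h1 := (hm z).2 hz
    rw [← he, Set.Finite.mem_toFinset] at h1
    exact h1

/-- subrings of the same order agree -/
theorem eq_of_card_eq (L₀ L₁ : Subring S) (h : Nat.card L₀ = Nat.card L₁) : L₀ = L₁ := by
  ext z
  rw [mem_iff_pow L₀, mem_iff_pow L₁, h]

/-- `S = L + L x` when `x² ∈ L`, `S` generated by `L` and `x` -/
theorem card_eq_sq {x : S} (hx : Subring.closure {x} = ⊤) (L : Subring S) (hxx : x * x ∈ L) (hxL : x ∉ L) :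
    Nat.card S = Nat.card L * Nat.card L := by
  have hsurj : ∀ y : S, ∃ a ∈ L, ∃ b ∈ L, a + b * x = y := by
    intro y
    have hy : y ∈ Subring.closure {x} := by rw [hx]; exact Subring.mem_top y
    induction hy using Subring.closure_induction with
    | mem z hz =>
      rw [Set.mem_singleton_iff] at hz
      exact ⟨0, L.zero_mem, 1, L.one_mem, by rw [hz]; ring⟩
    | zero => exact ⟨0, L.zero_mem, 0, L.zero_mem, by ring⟩
    | one => exact ⟨1, L.one_mem, 0, L.zero_mem, by ring⟩
    | add u v _ _ hu hv =>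
      obtain ⟨a, ha, b, hb, rfl⟩ := hu
      obtain ⟨c, hc, d, hd, rfl⟩ := hv
      exact ⟨a + c, L.add_mem ha hc, b + d, L.add_mem hb hd, by ring⟩
    | neg u _ hu =>
      obtain ⟨a, ha, b, hb, rfl⟩ := hu
      exact ⟨-a, L.neg_mem ha, -b, L.neg_mem hb, by ring⟩
    | mul u v _ _ hu hv =>
      obtain ⟨a, ha, b, hb, rfl⟩ := hu
      obtain ⟨c, hc, d, hd, rfl⟩ := hv
      exact ⟨a * c + b * d * (x * x), L.add_mem (L.mul_mem ha hc) (L.mul_mem (L.mul_mem hb hd) hxx),
        a * d + b * c, L.add_mem (L.mul_mem ha hd) (L.mul_mem hb hc), by ring⟩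
  have hbij : Function.Bijective (fun z : L × L => (z.1 : S) + (z.2 : S) * x) := by
    constructor
    · rintro ⟨⟨a, ha⟩, ⟨b, hb⟩⟩ ⟨⟨c, hc⟩, ⟨d, hd⟩⟩ h
      simp only at h
      by_cases hbd : b - d = 0
      · have e1 : b = d := sub_eq_zero.1 hbd
        subst e1
        have e2 : a = c := by linear_combination h
        subst e2
        rfl
      · exfalso
        obtain ⟨e, he, hbe⟩ := exists_inv L (L.sub_mem hb hd) hbd
        apply hxL
        have h1 : x = (c - a) * e := by linear_combination e * h - x * hbe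
        rw [h1]
        exact L.mul_mem (L.sub_mem hc ha) he
    · intro y
      obtain ⟨a, ha, b, hb, hab⟩ := hsurj y
      exact ⟨(⟨a, ha⟩, ⟨b, hb⟩), hab⟩
  rw [← Nat.card_prod]
  exact (Nat.card_eq_of_bijective _ hbij).symm

/-- the two elements `x` and `1 + x` are not both outside the subring generated by their squares -/
theorem not_both (h2 : (2 : S) ≠ 0) {x : S} (hx : Subring.closure {x} = ⊤)
    (h₀ : x ∉ Subring.closure {x * x}) (h₁ : 1 + x ∉ Subring.closure {(1 + x) * (1 + x)}) : False := by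
  have hx1 : Subring.closure {1 + x} = ⊤ := by
    rw [eq_top_iff, ← hx, Subring.closure_le, Set.singleton_subset_iff, SetLike.mem_coe]
    have h := Subring.sub_mem _ (Subring.subset_closure (Set.mem_singleton (1 + x)))
      (Subring.one_mem (Subring.closure {1 + x}))
    rwa [add_sub_cancel_left] at h
  have e0 : x * x ∈ Subring.closure {x * x} := Subring.subset_closure (Set.mem_singleton _)
  have e1 : (1 + x) * (1 + x) ∈ Subring.closure {(1 + x) * (1 + x)} := Subring.subset_closure (Set.mem_singleton _)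
  have c0 := card_eq_sq hx _ e0 h₀
  have c1 := card_eq_sq hx1 _ e1 h₁
  have hc : Nat.card (Subring.closure {x * x}) = Nat.card (Subring.closure {(1 + x) * (1 + x)}) := by
    rw [c0] at c1
    exact Nat.mul_self_inj.1 c1
  have hL := eq_of_card_eq _ _ hc
  have h3 : (1 + x) * (1 + x) ∈ Subring.closure {x * x} := by
    rw [hL]; exact e1
  obtain ⟨c, hc, h2c⟩ := exists_inv (Subring.closure {x * x})
    (Subring.add_mem _ (Subring.one_mem _) (Subring.one_mem _) : (1 : S) + 1 ∈ Subring.closure {x * x})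
    (by rw [one_add_one_eq_two]; exact h2)
  apply h₀
  have h4 : x = ((1 + x) * (1 + x) - 1 - x * x) * c := by linear_combination (-x) * h2c
  have h5 : ((1 + x) * (1 + x) - 1 - x * x) * c ∈ Subring.closure {x * x} :=
    Subring.mul_mem _ (Subring.sub_mem _ (Subring.sub_mem _ h3 (Subring.one_mem _)) e0) hc
  rwa [← h4] at h5

end comm

theorem not_both' {S : Type*} [Ring S] [IsDomain S] [Finite S] (hcomm : ∀ a b : S, a * b = b * a)
    (h2 : (2 : S) ≠ 0) {x : S} (hx : Subring.closure {x} = ⊤)
    (h₀ : x ∉ Subring.closure {x * x}) (h₁ : 1 + x ∉ Subring.closure {(1 + x) * (1 + x)}) : False := by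
  let _ : CommRing S := { (inferInstance : Ring S) with mul_comm := hcomm }
  exact not_both h2 hx h₀ h₁

/-! ### The Jordan algebra -/

variable {R : Type*} [Ring R]

/-- A special Jordan division algebra. -/
structure JD (Φ : AddSubgroup R) : Prop where
  one : (1 : R) ∈ Φ
  quad : ∀ x ∈ Φ, ∀ y ∈ Φ, x * y * x ∈ Φ
  unit : ∀ x ∈ Φ, x ≠ 0 → IsUnit x
  two : (2 : R) ≠ 0

variable {Φ : AddSubgroup R}

theorem JD.pow_mem (h : JD Φ) {x : R} (hx : x ∈ Φ) (n : ℕ) : x ^ n ∈ Φ := by
  induction n using Nat.strong_induction_on with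
  | _ n ih =>
    match n with
    | 0 => rw [pow_zero]; exact h.one
    | 1 => rwa [pow_one]
    | n + 2 =>
      have e : x ^ (n + 2) = x * x ^ n * x := by
        rw [pow_add, pow_two, ← mul_assoc, ← pow_succ, pow_succ']
      rw [e]
      exact h.quad x hx _ (ih n (by omega))

theorem JD.closure_le (h : JD Φ) {x : R} (hx : x ∈ Φ) {y : R} (hy : y ∈ Subring.closure {x}) : y ∈ Φ := by
  rw [Subring.mem_closure_iff] at hy
  have h1 : AddSubgroup.closure ((Submonoid.closure {x} : Submonoid R) : Set R) ≤ Φ := by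
    rw [AddSubgroup.closure_le]
    intro z hz
    obtain ⟨n, rfl⟩ := Submonoid.mem_closure_singleton.1 hz
    exact h.pow_mem hx n
  exact h1 hy

theorem JD.ne_zero_one (h : JD Φ) : (1 : R) ≠ 0 := by
  intro h1
  apply h.two
  rw [← one_add_one_eq_two, h1, add_zero]

/-- the closure of one element is a commutative domain -/
theorem JD.not_both (h : JD Φ) [Finite Φ] {x : R} (hx : x ∈ Φ)
    (h₀ : x ∉ Subring.closure {x * x}) (h₁ : 1 + x ∉ Subring.closure {(1 + x) * (1 + x)}) : False := by
  let T := Subring.closure {x}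
  have hcomm : ∀ a b : T, a * b = b * a := by
    have h1 := Subring.isMulCommutative_closure (s := {x}) (by
      rintro a ha b hb
      rw [Set.mem_singleton_iff] at ha hb
      rw [ha, hb])
    exact h1.is_comm.comm
  have hfin : Finite T := by
    refine Finite.of_injective (fun t : T => (⟨t.1, h.closure_le hx t.2⟩ : Φ)) ?_
    intro a b hab
    exact Subtype.ext (congrArg (fun z : Φ => (z : R)) hab)
  have hnt : Nontrivial T := ⟨⟨1, 0, fun h1 => h.ne_zero_one (congrArg Subtype.val h1)⟩⟩
  have hnz : NoZeroDivisors T := by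
    refine ⟨fun {a b} hab => ?_⟩
    by_contra hcon
    push Not at hcon
    obtain ⟨ha, hb⟩ := hcon
    have ha' : (a : R) ≠ 0 := fun h1 => ha (Subtype.ext h1)
    have hu := h.unit _ (h.closure_le hx a.2) ha'
    apply hb
    apply Subtype.ext
    have h1 : (a : R) * (b : R) = 0 := congrArg Subtype.val hab
    exact (hu.mul_right_eq_zero).1 h1
  have hdom : IsDomain T := NoZeroDivisors.to_isDomain T
  have hxT : x ∈ T := Subring.subset_closure (Set.mem_singleton x)
  set x' : T := ⟨x, hxT⟩ with hx'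
  have hcl : Subring.closure {x'} = ⊤ := by
    have e : (Subring.closure {x'}).map T.subtype = T := by
      rw [RingHom.map_closure, Set.image_singleton]
      rfl
    rw [eq_top_iff]
    rintro ⟨y, hy⟩ -
    rw [← e] at hy
    obtain ⟨w, hw, rfl⟩ := hy
    exact hw
  have hmap : ∀ y : T, ∀ z : T, z ∈ Subring.closure {y} ↔ (z : R) ∈ Subring.closure {(y : R)} := by
    intro y z
    have e : (Subring.closure {y}).map T.subtype = Subring.closure {(y : R)} := by
      rw [RingHom.map_closure, Set.image_singleton]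
      rfl
    rw [← e]
    constructor
    · intro hz
      exact ⟨z, hz, rfl⟩
    · rintro ⟨w, hw, hwz⟩
      have : w = z := Subtype.ext hwz
      rwa [← this]
  refine ZjSq.not_both' (x := x') hcomm ?_ hcl ?_ ?_
  · intro h2
    apply h.two
    have := congrArg Subtype.val h2
    exact this
  · intro hc
    have h3 := (hmap (x' * x') x').1 hc
    rw [Subring.coe_mul] at h3
    exact h₀ h3
  · intro hc
    have h3 := (hmap ((1 + x') * (1 + x')) (1 + x')).1 hc
    rw [Subring.coe_mul, Subring.coe_add, Subring.coe_one] at h3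
    exact h₁ h3

/-- elements with the same square as a good element -/
theorem JD.eq_or_eq_neg (h : JD Φ) {x y : R} (hx : x ∈ Φ) (hy : y ∈ Φ) (hxx : x ∈ Subring.closure {x * x})
    (he : y * y = x * x) : y = x ∨ y = -x := by
  have hcomm : y * x = x * y := by
    have h1 : x * x ∈ Subring.centralizer {y} := by
      rw [Subring.mem_centralizer_iff]
      intro z hz
      rw [Set.mem_singleton_iff.1 hz, ← he, mul_assoc]
    have h2 : Subring.closure {x * x} ≤ Subring.centralizer {y} := by
      rw [Subring.closure_le, Set.singleton_subset_iff]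
      exact h1
    have h3 := h2 hxx
    rw [Subring.mem_centralizer_iff] at h3
    exact h3 y (Set.mem_singleton y)
  have h4 : (y - x) * (y + x) = 0 := by
    rw [sub_mul, mul_add, mul_add, he, hcomm]
    abel
  by_cases h5 : y - x = 0
  · exact Or.inl (sub_eq_zero.1 h5)
  · have hu := h.unit _ (Φ.sub_mem hy hx) h5
    exact Or.inr (eq_neg_of_add_eq_zero_left (hu.mul_right_eq_zero.1 h4))

/-- **at least a quarter of the nonzero elements are squares** -/
theorem JD.card_le (h : JD Φ) [Finite Φ] :
    {x : R | x ∈ Φ ∧ x ≠ 0}.ncard ≤ 4 * {y : R | ∃ x ∈ Φ, x ≠ 0 ∧ x * x = y}.ncard := by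
  classical
  have hfin : {x : R | x ∈ Φ ∧ x ≠ 0}.Finite := (Set.toFinite (Φ : Set R)).subset fun x hx => hx.1
  set F := hfin.toFinset with hF
  have hmem : ∀ x, x ∈ F ↔ x ∈ Φ ∧ x ≠ 0 := fun x => by rw [hF, Set.Finite.mem_toFinset]; rfl
  have h1 : {x : R | x ∈ Φ ∧ x ≠ 0}.ncard = F.card := by
    rw [Set.ncard_eq_toFinset_card _ hfin]
  have h2 : {y : R | ∃ x ∈ Φ, x ≠ 0 ∧ x * x = y} = ((F.image fun x => x * x : Finset R) : Set R) := by
    ext y
    rw [Finset.mem_coe, Finset.mem_image]
    constructor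
    · rintro ⟨x, hx, hx0, he⟩
      exact ⟨x, (hmem x).2 ⟨hx, hx0⟩, he⟩
    · rintro ⟨x, hx, he⟩
      exact ⟨x, ((hmem x).1 hx).1, ((hmem x).1 hx).2, he⟩
  rw [h1, h2, Set.ncard_coe_finset]
  set Gd := F.filter (fun x => x ∈ Subring.closure {x * x}) with hGd
  set Bd := F.filter (fun x => ¬ x ∈ Subring.closure {x * x}) with hBd
  have h3 : Gd.card + Bd.card = F.card := Finset.card_filter_add_card_filter_not _
  have h4 : Bd.card ≤ Gd.card := by
    refine Finset.card_le_card_of_injOn (fun x => 1 + x) ?_ ?_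
    · intro x hx
      rw [Finset.mem_coe, hBd, Finset.mem_filter, hmem] at hx
      obtain ⟨⟨hxΦ, hx0⟩, hxb⟩ := hx
      rw [Finset.mem_coe, hGd, Finset.mem_filter, hmem]
      refine ⟨⟨Φ.add_mem h.one hxΦ, ?_⟩, ?_⟩
      · intro h0
        apply hxb
        have e : x = -1 := by
          rw [eq_neg_iff_add_eq_zero, add_comm]; exact h0
        rw [e]
        exact Subring.neg_mem _ (Subring.one_mem _)
      · by_contra hcon
        exact h.not_both hxΦ hxb hcon
    · intro x _ y _ hxy
      exact add_left_cancel hxy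
  have h5 : Gd.card ≤ 2 * (Gd.image fun x => x * x).card := by
    refine Finset.card_le_mul_card_image _ 2 ?_
    intro b hb
    obtain ⟨x, hx, rfl⟩ := Finset.mem_image.1 hb
    rw [hGd, Finset.mem_filter, hmem] at hx
    refine (Finset.card_le_card (t := {x, -x}) ?_).trans (Finset.card_le_two)
    intro y hy
    rw [Finset.mem_filter, hGd, Finset.mem_filter, hmem] at hy
    rw [Finset.mem_insert, Finset.mem_singleton]
    exact h.eq_or_eq_neg hx.1.1 hy.1.1.1 hx.2 hy.2
  have h6 : (Gd.image fun x => x * x).card ≤ (F.image fun x => x * x).card :=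
    Finset.card_le_card (Finset.image_subset_image (Finset.filter_subset _ _))
  omega

/-! ### The corner version -/

/-- the inclusion of a corner ring -/
def cornerVal {e : R} (he : IsIdempotentElem e) : he.Corner →+ R where
  toFun := Subtype.val
  map_zero' := rfl
  map_add' _ _ := rfl

theorem cornerVal_injective {e : R} (he : IsIdempotentElem e) : Function.Injective (cornerVal he) :=
  Subtype.val_injective

theorem cornerVal_mul {e : R} (he : IsIdempotentElem e) (x y : he.Corner) :
    cornerVal he (x * y) = cornerVal he x * cornerVal he y := rfl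

theorem cornerVal_one {e : R} (he : IsIdempotentElem e) : cornerVal he 1 = e := rfl

/-- the statement for a Jordan division algebra with unit an idempotent `e` of the ring -/
theorem card_le_corner [Finite Φ] {e : R} (he : e ∈ Φ) (hl : ∀ x ∈ Φ, e * x = x) (hr : ∀ x ∈ Φ, x * e = x)
    (quad : ∀ x ∈ Φ, ∀ y ∈ Φ, x * y * x ∈ Φ)
    (inv : ∀ x ∈ Φ, x ≠ 0 → ∃ y, e * y = y ∧ y * e = y ∧ x * y = e ∧ y * x = e) (h2 : e + e ≠ 0) :
    {x : R | x ∈ Φ ∧ x ≠ 0}.ncard ≤ 4 * {y : R | ∃ x ∈ Φ, x ≠ 0 ∧ x * x = y}.ncard := by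
  have hid : IsIdempotentElem e := hl e he
  set ι := cornerVal hid with hι
  have hinj : Function.Injective ι := cornerVal_injective hid
  have hmul : ∀ x y, ι (x * y) = ι x * ι y := cornerVal_mul hid
  have hone : ι 1 = e := cornerVal_one hid
  have hsur : ∀ y : R, e * y = y → y * e = y → ∃ x, ι x = y := by
    intro y h1 h2
    exact ⟨⟨y, (Subsemigroup.mem_corner_iff hid).2 ⟨h1, h2⟩⟩, rfl⟩
  have hfin : Finite (Φ.comap ι) := by
    refine Finite.of_injective (fun t : Φ.comap ι => (⟨ι t.1, t.2⟩ : Φ)) ?_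
    intro a b hab
    exact Subtype.ext (hinj (congrArg (fun z : Φ => (z : R)) hab))
  have hJ : JD (Φ.comap ι) := by
    refine ⟨?_, ?_, ?_, ?_⟩
    · rw [AddSubgroup.mem_comap, hone]; exact he
    · intro x hx y hy
      rw [AddSubgroup.mem_comap, hmul, hmul]
      exact quad _ hx _ hy
    · intro x hx hx0
      obtain ⟨y, h1, h2, h3, h4⟩ := inv (ι x) hx (fun h => hx0 (hinj (by rw [h, map_zero])))
      obtain ⟨z, rfl⟩ := hsur y h1 h2
      refine ⟨⟨x, z, ?_, ?_⟩, rfl⟩
      · apply hinj; rw [hmul, h3, hone]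
      · apply hinj; rw [hmul, h4, hone]
    · intro h
      apply h2
      have h3 := congrArg ι h
      rw [← one_add_one_eq_two, map_add, map_zero, hone] at h3
      exact h3
  have h := hJ.card_le
  have e1 : {x : R | x ∈ Φ ∧ x ≠ 0} = ι '' {x | x ∈ Φ.comap ι ∧ x ≠ 0} := by
    ext x
    constructor
    · rintro ⟨hx, hx0⟩
      obtain ⟨z, rfl⟩ := hsur x (hl x hx) (hr x hx)
      exact ⟨z, ⟨hx, fun h => hx0 (by rw [h, map_zero])⟩, rfl⟩
    · rintro ⟨z, ⟨hz, hz0⟩, rfl⟩
      exact ⟨hz, fun h => hz0 (hinj (by rw [h, map_zero]))⟩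
  have e2 : {y : R | ∃ x ∈ Φ, x ≠ 0 ∧ x * x = y} = ι '' {y | ∃ x ∈ Φ.comap ι, x ≠ 0 ∧ x * x = y} := by
    ext y
    constructor
    · rintro ⟨x, hx, hx0, rfl⟩
      obtain ⟨z, rfl⟩ := hsur x (hl x hx) (hr x hx)
      exact ⟨z * z, ⟨z, hx, fun h => hx0 (by rw [h, map_zero]), rfl⟩, hmul z z⟩
    · rintro ⟨_, ⟨z, hz, hz0, rfl⟩, rfl⟩
      exact ⟨ι z, hz, fun h => hz0 (hinj (by rw [h, map_zero])), (hmul z z).symm⟩
  rw [e1, e2, Set.ncard_image_of_injective _ hinj, Set.ncard_image_of_injective _ hinj]
  exact h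

end Cfsg.Agent.H220.ZjSq
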