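import Cfsg.Agent.H220.ZjBase
import Cfsg.Agent.H220.ZjSq
import Cfsg.Agent.Solvable.Glauberman

/-!
Coprime operators on a linear group with quadratic elements (S3260): operators fixing a root group fix an opposite
root group (`exists_fixed_opposite`), and operators of order prime to `6` fixing a root group and an opposite one fix a
nontrivial element of the root group (`exists_fixed_vector`).
-/

set_option autoImplicit false

namespace Cfsg.Agent.H220.Zj

open Cfsg Cfsg.Agent.H740 Cfsg.Agent.H742 Cfsg.Agent.H731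

variable {k : Type*} [Field k] {M : Type*} [AddCommGroup M] [Module k M]
variable {G : Subgroup (LinearMap.GeneralLinearGroup k M)}

/-! ### Conjugacy of opposites -/

theorem tau_congr' {s s' t t' : M →ₗ[k] M} (h : Inv s t) (h' : Inv s' t') (hs : s = s') (ht : t = t') (c : k)
    (hc : c ≠ 0) : tau h c hc = tau h' c hc := by subst hs; subst ht; rfl

theorem tau_pow_mul {s t : M →ₗ[k] M} (h : Inv s t) (c : k) (hc : c ≠ 0) (n : ℕ) :
    (((tau h c hc) ^ n : LinearMap.GeneralLinearGroup k M) : M →ₗ[k] M) * s = (c ^ n) • s := by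
  induction n with
  | zero => rw [pow_zero, pow_zero, Units.val_one, one_mul, one_smul]
  | succ n ih => rw [pow_succ, Units.val_mul, mul_assoc, tau_mul_s, mul_smul_comm, ih, smul_smul, pow_succ, mul_comm c]

theorem tau_pow_eq_one_iff {s t : M →ₗ[k] M} (h : Inv s t) (hs : s ≠ 0) (c : k) (hc : c ≠ 0) (n : ℕ) :
    (tau h c hc) ^ n = 1 ↔ c ^ n = 1 := by
  constructor
  · intro h1
    have h2 := tau_pow_mul h c hc n
    rw [h1, Units.val_one, one_mul] at h2
    have h3 : (c ^ n - 1) • s = 0 := by rw [sub_smul, one_smul, ← h2, sub_self]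
    exact sub_eq_zero.1 ((smul_eq_zero.1 h3).resolve_right hs)
  · exact tau_pow h c hc n

theorem mem_normalizer_of_conj {H : Type*} [Group H] {K : Subgroup H} {g : H} (h1 : ∀ x ∈ K, g * x * g⁻¹ ∈ K)
    (h2 : ∀ x ∈ K, g⁻¹ * x * g ∈ K) : g ∈ Subgroup.normalizer (K : Set H) := by
  rw [Subgroup.mem_normalizer_iff]
  intro x
  refine ⟨h1 x, fun hx => ?_⟩
  have h3 := h2 _ hx
  have e : g⁻¹ * (g * x * g⁻¹) * g = x := by group
  rwa [e] at h3

theorem Same_conj_inv {s : M →ₗ[k] M} {g : LinearMap.GeneralLinearGroup k M} (h : Same (conjL g s) s) :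
    Same (conjL g⁻¹ s) s := by
  have h1 := Same_conj h g⁻¹
  rw [conjL_inv_conjL] at h1
  exact h1.symm

theorem mem_normalizer_UG {s : M →ₗ[k] M} {hs : s * s = 0} {g : LinearMap.GeneralLinearGroup k M}
    (hg : g ∈ Subgroup.normalizer (G : Set (LinearMap.GeneralLinearGroup k M))) (hS : Same (conjL g s) s) :
    g ∈ Subgroup.normalizer (UG G s hs : Set (LinearMap.GeneralLinearGroup k M)) := by
  refine mem_normalizer_of_conj ?_ ?_
  · intro x hx
    exact conj_mem_UG (fun y hy => (Subgroup.mem_normalizer_iff.1 hg y).1 hy) hS hx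
  · intro x hx
    have h1 := conj_mem_UG (g := g⁻¹) (fun y hy => (Subgroup.mem_normalizer_iff.1 (Subgroup.inv_mem _ hg) y).1 hy)
      (Same_conj_inv hS) hx
    rwa [inv_inv] at h1

section conj

variable {p : ℕ} [Fact p.Prime] [CharP k p]

theorem isPGroup_UG (hp : 3 ≤ p) {s : M →ₗ[k] M} {hs : s * s = 0} : IsPGroup p (UG G s hs) := by
  rintro ⟨u, hu⟩
  refine ⟨1, Subtype.ext ?_⟩
  rw [pow_one, SubgroupClass.coe_pow]
  exact pow_of_mem_UG hp hu

theorem exists_conj_UG [Finite (LinearMap.GeneralLinearGroup k M)] [Finite k] (hp : 5 ≤ p) {s t t' : M →ₗ[k] M}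
    (h : Inv s t) (h' : Inv s t') (hs0 : s ≠ 0) (hs : QIn G s) (ht : QIn G t) (ht' : QIn G t') :
    ∃ u ∈ UG G s h.ss, conjL u t = t' := by
  classical
  have hp3 : 3 ≤ p := by omega
  -- the scalar
  obtain ⟨c, hc, hc2⟩ : ∃ c : k, c ≠ 0 ∧ c ^ 2 ≠ 1 := by
    refine exists_sq_ne_one ?_ ?_
    · rw [ringChar.eq k p]
      omega
    · intro h3
      let _ : Fintype k := Fintype.ofFinite k
      obtain ⟨n, hpp, hn⟩ := FiniteField.card k p
      rw [← Nat.card_eq_fintype_card, h3] at hn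
      have h4 : p ∣ 3 := by rw [hn]; exact dvd_pow_self p n.ne_zero
      have := Nat.le_of_dvd (by norm_num) h4
      omega
  have hc1 : c ≠ 1 := fun h1 => hc2 (by rw [h1, one_pow])
  have hc2' : c * c ≠ 1 := by rwa [pow_two] at hc2
  have hcard : (orderOf c).Coprime p := by
    let _ : Fintype k := Fintype.ofFinite k
    have h1 : c ^ (Fintype.card k - 1) = 1 := FiniteField.pow_card_sub_one_eq_one c hc
    have h2 := orderOf_dvd_of_pow_eq_one h1
    refine Nat.Coprime.coprime_dvd_left h2 ?_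
    obtain ⟨n, hpp, hn⟩ := FiniteField.card k p
    rw [Nat.coprime_comm, Nat.Prime.coprime_iff_not_dvd Fact.out]
    intro h3
    have h4 : p ∣ Fintype.card k := by rw [hn]; exact dvd_pow_self p n.ne_zero
    have h5 : 1 ≤ Fintype.card k := Fintype.card_pos
    have h6 : p ∣ 1 := by
      have := (Nat.dvd_sub h4 h3)
      rwa [Nat.sub_sub_self h5] at this
    exact (Fact.out : p.Prime).one_lt.ne' (Nat.dvd_one.1 h6)
  set τ := tau h c hc with hτ
  set τ' := tau h' c hc with hτ'
  have hord : orderOf τ = orderOf c := by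
    rw [orderOf_eq_orderOf_iff]
    exact tau_pow_eq_one_iff h hs0 c hc
  have hord' : orderOf τ' = orderOf c := by
    rw [orderOf_eq_orderOf_iff]
    exact tau_pow_eq_one_iff h' hs0 c hc
  have hU : IsPGroup p (UG G s h.ss) := isPGroup_UG hp3
  obtain ⟨m, hm⟩ := IsPGroup.iff_card.1 hU
  have hτG : τ ∈ G := tau_mem h hs ht c hc
  have hnorm : Subgroup.zpowers τ ≤ Subgroup.normalizer (UG G s h.ss : Set (LinearMap.GeneralLinearGroup k M)) := by
    rw [Subgroup.zpowers_le]
    exact mem_normalizer_UG (Subgroup.le_normalizer hτG) (same_conj_tau h c hc)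
  have hcop : (Nat.card (Subgroup.zpowers τ)).Coprime (Nat.card (UG G s h.ss)) := by
    rw [Nat.card_zpowers, hord, hm]
    exact Nat.Coprime.pow_right m hcard
  have hq : τ' * τ⁻¹ ∈ UG G s h.ss := tau_mul_inv_mem h h' hs ht ht' c hc
  have hB : Subgroup.zpowers τ' ≤ Subgroup.zpowers τ ⊔ UG G s h.ss := by
    rw [Subgroup.zpowers_le]
    have e : τ' = (τ' * τ⁻¹) * τ := by group
    rw [e]
    exact Subgroup.mul_mem _ (Subgroup.mem_sup_right hq) (Subgroup.mem_sup_left (Subgroup.mem_zpowers τ))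
  have hUn := hU.isNilpotent
  obtain ⟨u, hu, hconj⟩ := Solvable.Glauberman.exists_conj_of_le_sup (Subgroup.zpowers τ) (UG G s h.ss) hnorm hcop
    (Or.inr inferInstance) (Subgroup.zpowers τ') hB (by rw [Nat.card_zpowers, Nat.card_zpowers, hord, hord'])
  have h1 : u * τ * u⁻¹ ∈ Subgroup.zpowers τ' := by
    rw [← hconj]
    exact Subgroup.smul_mem_pointwise_smul _ (MulAut.conj u) _ (Subgroup.mem_zpowers τ)
  have h2 : u * τ * u⁻¹ * τ'⁻¹ ∈ UG G s h.ss := by
    have e : u * τ * u⁻¹ * τ'⁻¹ = u * (τ * u⁻¹ * τ⁻¹) * (τ' * τ⁻¹)⁻¹ := by group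
    rw [e]
    refine Subgroup.mul_mem _ (Subgroup.mul_mem _ hu ?_) (Subgroup.inv_mem _ hq)
    exact (Subgroup.mem_normalizer_iff.1 (hnorm (Subgroup.mem_zpowers τ)) _).1 (Subgroup.inv_mem _ hu)
  have h3 : u * τ * u⁻¹ * τ'⁻¹ ∈ Subgroup.zpowers τ' :=
    Subgroup.mul_mem _ h1 (Subgroup.inv_mem _ (Subgroup.mem_zpowers τ'))
  have h4 : u * τ * u⁻¹ * τ'⁻¹ = 1 := by
    rw [← orderOf_eq_one_iff]
    have h5 : orderOf (u * τ * u⁻¹ * τ'⁻¹) ∣ orderOf c := by
      rw [← hord', ← Nat.card_zpowers τ']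
      exact Subgroup.orderOf_dvd_natCard _ h3
    have h6 : orderOf (u * τ * u⁻¹ * τ'⁻¹) ∣ p := orderOf_dvd_of_pow_eq_one (pow_of_mem_UG hp3 h2)
    exact Nat.eq_one_of_dvd_coprimes hcard h5 h6
  have h5 : u * τ * u⁻¹ = τ' := mul_inv_eq_one.1 h4
  refine ⟨u, hu, ?_⟩
  have h6 : Inv s (conjL u t) := by
    have := Inv_conj h u
    rwa [conjL_of_mem_UG hu] at this
  refine eq_of_tau_eq h6 h' c hc hc1 hc2' ?_
  rw [← hτ', ← h5, hτ, conj_tau]
  exact tau_congr' _ _ (conjL_of_mem_UG hu).symm rfl c hc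

/-- the action on pairs of subspaces -/
@[reducible] def pairAct : MulAction (LinearMap.GeneralLinearGroup k M) (Submodule k M × Submodule k M) where
  smul g x := (x.1.map (g : M →ₗ[k] M), x.2.map (g : M →ₗ[k] M))
  one_smul x := by
    refine Prod.ext ?_ ?_
    · exact Submodule.map_id x.1
    · exact Submodule.map_id x.2
  mul_smul g h x := by
    refine Prod.ext ?_ ?_
    · exact Submodule.map_comp _ _ x.1
    · exact Submodule.map_comp _ _ x.2

theorem exists_fixed_opposite [FiniteDimensional k M] [Finite (LinearMap.GeneralLinearGroup k M)] [Finite k]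
    (hp : 5 ≤ p) (hC : Core G) {s r : M →ₗ[k] M} (hs : IsMin G s) (hr : IsMin G r) (hn : ¬ IsNilpotent (s * r))
    (B : Subgroup (LinearMap.GeneralLinearGroup k M))
    (hBG : B ≤ Subgroup.normalizer (G : Set (LinearMap.GeneralLinearGroup k M)))
    (hcop : (Nat.card B).Coprime (Nat.card G)) (hsB : ∀ b ∈ B, Same (conjL b s) s) :
    ∃ t, IsMin G t ∧ Inv s t ∧ ∀ b ∈ B, Same (conjL b t) t := by
  obtain ⟨t, ht, -, h⟩ := hC.inv hs hr hn
  let _ := pairAct (k := k) (M := M)
  have hU : IsPGroup p (UG G s h.ss) := isPGroup_UG (by omega)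
  have hUn := hU.isNilpotent
  have hnorm : B ≤ Subgroup.normalizer (UG G s h.ss : Set (LinearMap.GeneralLinearGroup k M)) :=
    fun b hb => mem_normalizer_UG (hBG hb) (hsB b hb)
  have hcop' : (Nat.card B).Coprime (Nat.card (UG G s h.ss)) :=
    Nat.Coprime.coprime_dvd_right (Subgroup.card_dvd_of_le inf_le_left) hcop
  have hsmul : ∀ (g : LinearMap.GeneralLinearGroup k M) (x : M →ₗ[k] M),
      g • ((LinearMap.ker x, LinearMap.range x) : Submodule k M × Submodule k M) =
        (LinearMap.ker (conjL g x), LinearMap.range (conjL g x)) := by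
    intro g x
    rw [ker_conjL, range_conjL]
    rfl
  obtain ⟨u, hu, hfix⟩ := Solvable.Glauberman.exists_smul_fixed B (UG G s h.ss) hnorm hcop' (Or.inr inferInstance)
    (X := Submodule k M × Submodule k M) (LinearMap.ker t, LinearMap.range t) (by
    intro b hb
    have hbG : ∀ x ∈ G, b * x * b⁻¹ ∈ G := fun x hx => (Subgroup.mem_normalizer_iff.1 (hBG hb) x).1 hx
    have htb := IsMin_conj ht hbG
    have hsb := IsMin_conj hs hbG
    have hn' : ¬ IsNilpotent (s * conjL b t) := by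
      rw [hC.not_isNilpotent_congr hs htb hsb htb (hsB b hb).symm (Same.refl _)]
      exact (Inv_conj h b).not_isNilpotent hsb.ne_zero
    obtain ⟨t', ht', hsame, h'⟩ := hC.inv hs htb hn'
    obtain ⟨u, hu, hut⟩ := exists_conj_UG hp h h' hs.ne_zero hs.1 ht.1 ht'.1
    refine ⟨u, hu, ?_⟩
    rw [hsmul, hsmul, hut, hsame.1, hsame.2])
  refine ⟨conjL u t, IsMin_conj ht (fun x hx => G.mul_mem (G.mul_mem hu.1 hx) (G.inv_mem hu.1)), ?_, ?_⟩
  · have := Inv_conj h u
    rwa [conjL_of_mem_UG hu] at this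
  · intro b hb
    have h1 := hfix b hb
    rw [hsmul, hsmul, Prod.mk.injEq] at h1
    exact ⟨h1.1, h1.2⟩

end conj

end Cfsg.Agent.H220.Zj
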