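import Cfsg.Agent.H220.ZjVec
import Cfsg.Agent.H220.ZjDiag
import Cfsg.Agent.H742.SigmaRoot
import Cfsg.Agent.S0205

/-!
Linear groups with quadratic elements and coprime operators (S3260): the operators centralise a subgroup `SL₂(k)` or
`PSL₂(k)` of the group.
-/

set_option autoImplicit false

namespace Cfsg.Agent.H220.Zj

open Cfsg Cfsg.Agent.H740 Cfsg.Agent.H742 Cfsg.Agent.H731

/-- subgroups with the conjugation action -/
def SG (H : Type*) [Group H] := Subgroup H

/-- the conjugation action on subgroups -/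
instance conjActSG {H : Type*} [Group H] : MulAction H (SG H) where
  smul g A := (conjBy (show Subgroup H from A) g : Subgroup H)
  one_smul A := conjBy_one (show Subgroup H from A)
  mul_smul g h A := (conjBy_conjBy (show Subgroup H from A) g h).symm

theorem smul_SG {H : Type*} [Group H] (g : H) (A : Subgroup H) :
    (g • (show SG H from A) : SG H) = (conjBy A g : Subgroup H) := rfl

section roots

variable {k : Type*} [Field k] {M : Type*} [AddCommGroup M] [Module k M]
variable {G : Subgroup (LinearMap.GeneralLinearGroup k M)}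

theorem conjL_mem_cl {s x : M →ₗ[k] M} (hx : x ∈ cl G s) {g : LinearMap.GeneralLinearGroup k M}
    (hg : ∀ x ∈ G, g * x * g⁻¹ ∈ G) : conjL g x ∈ cl G (conjL g s) := by
  refine ⟨QIn_conj hx.1 hg, ?_, ?_⟩
  · rw [ker_conjL, ker_conjL]; exact Submodule.map_mono hx.2.1
  · rw [range_conjL, range_conjL]; exact Submodule.map_mono hx.2.2

variable [FiniteDimensional k M]

theorem conjBy_E {σ : LinearMap.GeneralLinearGroup k M} (hσ : σ ∈ minimalQuadraticElements G)
    {g : LinearMap.GeneralLinearGroup k M} (hg : ∀ x ∈ G, g * x * g⁻¹ ∈ G) (hg' : ∀ x ∈ G, g⁻¹ * x * g ∈ G) :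
    g * σ * g⁻¹ ∈ minimalQuadraticElements G ∧
      conjBy (sameActionSubgroup G σ) g = sameActionSubgroup G (g * σ * g⁻¹) := by
  have h1 : g * σ * g⁻¹ ∈ minimalQuadraticElements G := by
    rw [H740.mem_minimalQuadraticElements_iff, coe_conj_sub_one]
    exact IsMin_conj (H740.mem_minimalQuadraticElements_iff.1 hσ) hg
  refine ⟨h1, ?_⟩
  have e0 : ∀ (g x : LinearMap.GeneralLinearGroup k M),
      ((g * x * g⁻¹ : LinearMap.GeneralLinearGroup k M) : M →ₗ[k] M) - 1 = conjL g ((x : M →ₗ[k] M) - 1) :=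
    fun g x => coe_conj_sub_one g x
  have e1 : ∀ x : LinearMap.GeneralLinearGroup k M,
      ((g⁻¹ * x * g : LinearMap.GeneralLinearGroup k M) : M →ₗ[k] M) - 1 = conjL g⁻¹ ((x : M →ₗ[k] M) - 1) := by
    intro x
    have := e0 g⁻¹ x
    rwa [inv_inv] at this
  ext x
  rw [mem_conjBy, mem_E_iff hσ, mem_E_iff h1, e0, e1]
  constructor
  · intro h
    have := conjL_mem_cl h hg
    rwa [conjL_conjL_inv] at this
  · intro h
    have := conjL_mem_cl h (g := g⁻¹) (by intro x hx; rw [inv_inv]; exact hg' x hx)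
    rwa [conjL_inv_conjL] at this

theorem conjBy_mem_sigma {A : Subgroup (LinearMap.GeneralLinearGroup k M)} (hA : A ∈ quadraticRootSubgroups G)
    {g : LinearMap.GeneralLinearGroup k M} (hg : ∀ x ∈ G, g * x * g⁻¹ ∈ G) (hg' : ∀ x ∈ G, g⁻¹ * x * g ∈ G) :
    conjBy A g ∈ quadraticRootSubgroups G := by
  obtain ⟨σ, hσ, rfl⟩ := hA
  obtain ⟨h1, h2⟩ := conjBy_E hσ hg hg'
  exact ⟨_, h1, h2⟩

theorem reach_conj {A B : Subgroup (LinearMap.GeneralLinearGroup k M)}
    (h : Relation.ReflTransGen (FAdj (quadraticRootSubgroups G)) A B)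
    {g : LinearMap.GeneralLinearGroup k M} (hg : ∀ x ∈ G, g * x * g⁻¹ ∈ G) (hg' : ∀ x ∈ G, g⁻¹ * x * g ∈ G) :
    Relation.ReflTransGen (FAdj (quadraticRootSubgroups G)) (conjBy A g) (conjBy B g) :=
  Relation.ReflTransGen.lift (r := FAdj (quadraticRootSubgroups G)) (p := FAdj (quadraticRootSubgroups G))
    (fun A => conjBy A g)
    (fun _ _ h => ⟨conjBy_mem_sigma h.1 hg hg', conjBy_mem_sigma h.2.1 hg hg', IsRankOnePair_conj h.2.2 g⟩) _ _ h

omit [FiniteDimensional k M] in
/-- the members of a component are conjugate in the group they generate -/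
theorem exists_conj_of_reach {T : Set (Subgroup (LinearMap.GeneralLinearGroup k M))}
    {A B : Subgroup (LinearMap.GeneralLinearGroup k M)}
    (h : Relation.ReflTransGen (FAdj T) A B) :
    ∃ g ∈ ⨆ X ∈ componentOf (FAdj T) T A, X, conjBy A g = B := by
  induction h with
  | refl => exact ⟨1, Subgroup.one_mem _, conjBy_one A⟩
  | @tail B C h1 h2 ih =>
    obtain ⟨g, hg, hgB⟩ := ih
    have hBD : B ∈ componentOf (FAdj T) T A := ⟨h2.1, h1⟩
    have hCD : C ∈ componentOf (FAdj T) T A := ⟨h2.2.1, h1.tail h2⟩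
    obtain ⟨a, ha, ha1⟩ := rankOne_exists_left h2.2.2
    obtain ⟨b, hb, hb1, hab⟩ := h2.2.2.cond_left a ha ha1
    refine ⟨a * b⁻¹ * g, Subgroup.mul_mem _ (Subgroup.mul_mem _ (le_gen hBD ha) (Subgroup.inv_mem _ (le_gen hCD hb))) hg,
      ?_⟩
    rw [← conjBy_conjBy, hgB, ← conjBy_conjBy, hab, conjBy_conjBy, mul_inv_cancel, conjBy_one]

/-- A root group fixed by the operators stabilising its component. -/
theorem exists_fixed_root [Finite (LinearMap.GeneralLinearGroup k M)] (hC : Core G) (hO : HasOpp G)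
    (P : Subgroup (LinearMap.GeneralLinearGroup k M))
    (hPG : ∀ a ∈ P, ∀ x ∈ G, a * x * a⁻¹ ∈ G) (hcop : (Nat.card P).Coprime (Nat.card G))
    (hsol : Group.IsSolvable P) {E₀ : Subgroup (LinearMap.GeneralLinearGroup k M)}
    (hE₀ : E₀ ∈ quadraticRootSubgroups G) :
    ∃ E ∈ quadraticRootSubgroups G, ∀ a ∈ P, conjBy E a = E ∨
      ∀ A ∈ componentOf (FAdj (quadraticRootSubgroups G)) (quadraticRootSubgroups G) E,
        ∀ B ∈ componentOf (FAdj (quadraticRootSubgroups G)) (quadraticRootSubgroups G) E, ⁅conjBy A a, B⁆ = ⊥ := by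
  set T := quadraticRootSubgroups G with hT
  have hF : Fam T := sigma_fam hC hO
  have hP := sigma_partner hC hO
  have hPG' : ∀ a ∈ P, ∀ x ∈ G, a⁻¹ * x * a ∈ G := by
    intro a ha x hx
    have := hPG a⁻¹ (P.inv_mem ha) x hx
    rwa [inv_inv] at this
  -- the stabiliser of the component
  let B : Subgroup (LinearMap.GeneralLinearGroup k M) :=
    { carrier := {a | a ∈ P ∧ Relation.ReflTransGen (FAdj T) E₀ (conjBy E₀ a)}
      one_mem' := ⟨P.one_mem, by rw [conjBy_one]⟩
      mul_mem' := by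
        rintro a b ⟨ha, ha'⟩ ⟨hb, hb'⟩
        refine ⟨P.mul_mem ha hb, ?_⟩
        rw [← conjBy_conjBy]
        exact ha'.trans (reach_conj hb' (hPG a ha) (hPG' a ha))
      inv_mem' := by
        rintro a ⟨ha, ha'⟩
        refine ⟨P.inv_mem ha, ?_⟩
        have h1 := reach_conj (g := a⁻¹) ha' (hPG a⁻¹ (P.inv_mem ha)) (by rw [inv_inv]; exact hPG a ha)
        rw [conjBy_conjBy, inv_mul_cancel, conjBy_one] at h1
        exact H733.reach_symm h1 }
  have hBP : B ≤ P := fun b hb => hb.1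
  set D := componentOf (FAdj T) T E₀ with hD
  set K := ⨆ X ∈ D, X with hK
  have hKT : K ≤ ⨆ X ∈ T, X := gen_componentOf_le
  have hKG : K ≤ G := hKT.trans gen_sigma_le
  have hDB : ∀ b ∈ B, ∀ X ∈ D, conjBy X b ∈ D := by
    intro b hb X hX
    refine ⟨conjBy_mem_sigma hX.1 (hPG b hb.1) (hPG' b hb.1), ?_⟩
    exact hb.2.trans (reach_conj hX.2 (hPG b hb.1) (hPG' b hb.1))
  have hKB : ∀ b ∈ B, ∀ x ∈ K, b * x * b⁻¹ ∈ K := by
    intro b hb x hx
    have h1 : conjBy K b ≤ K := by
      rw [hK, conjBy_iSup]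
      refine iSup_le fun X => ?_
      rw [conjBy_iSup]
      exact iSup_le fun hX => le_gen (hDB b hb X hX)
    exact h1 (conj_mem_conjBy hx b)
  have hBK : B ≤ Subgroup.normalizer (K : Set (LinearMap.GeneralLinearGroup k M)) := by
    intro b hb
    refine mem_normalizer_of_conj (hKB b hb) ?_
    intro x hx
    have := hKB b⁻¹ (B.inv_mem hb) x hx
    rwa [inv_inv] at this
  have hsolB : Group.IsSolvable B := by
    have := hsol
    exact Group.isSolvable_of_isSolvable_injective (Subgroup.inclusion_injective hBP)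
  obtain ⟨g, hg, hfix⟩ := Solvable.Glauberman.exists_smul_fixed B K hBK
    (Nat.Coprime.coprime_dvd_left (Subgroup.card_dvd_of_le hBP)
      (Nat.Coprime.coprime_dvd_right (Subgroup.card_dvd_of_le hKG) hcop)) (Or.inl hsolB)
    (X := SG (LinearMap.GeneralLinearGroup k M)) E₀ (by
      intro b hb
      obtain ⟨g, hg, h⟩ := exists_conj_of_reach (T := T) hb.2
      exact ⟨g, hg, h.symm⟩)
  set E := conjBy E₀ g with hE
  have hED : E ∈ D := ⟨hF.conj E₀ hE₀ g (hKT hg), hF.reach_conjBy hP hE₀ (hKT hg)⟩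
  refine ⟨E, hED.1, ?_⟩
  rw [componentOf_eq hED]
  intro a ha
  by_cases hab : a ∈ B
  · exact Or.inl (hfix a hab)
  · right
    intro X hX Y hY
    rcases hF.reach_or_commute hP (conjBy_mem_sigma hX.1 (hPG a ha) (hPG' a ha)) hY.1 with h1 | h1
    · refine absurd ⟨ha, ?_⟩ hab
      exact (hY.2.trans (H733.reach_symm h1)).trans (H733.reach_symm (reach_conj hX.2 (hPG a ha) (hPG' a ha)))
    · exact h1

omit [FiniteDimensional k M] in
theorem two_dvd_card [Finite (LinearMap.GeneralLinearGroup k M)] (h2k : (2 : k) ≠ 0) {s t : M →ₗ[k] M}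
    (h : Inv s t) (hs0 : s ≠ 0) (hs : QIn G s) (ht : QIn G t) : 2 ∣ Nat.card G := by
  have hinj : Function.Injective h.slHom := (MonoidHom.ker_eq_bot_iff _).1 (h.slHom_ker hs0)
  have hne : (-1 : Matrix.SpecialLinearGroup (Fin 2) k) ≠ 1 := by
    intro h1
    have h2 := congrArg (fun g : Matrix.SpecialLinearGroup (Fin 2) k => (g : Matrix (Fin 2) (Fin 2) k) 0 0) h1
    simp at h2
    have h3 : (2 : k) = 0 := by linear_combination (-1 : k) * h2
    exact h2k h3
  have h3 : orderOf (⟨h.slHom (-1), slHom_mem h hs ht _⟩ : G) = 2 := by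
    have : Fact (Nat.Prime 2) := ⟨Nat.prime_two⟩
    refine orderOf_eq_prime ?_ ?_
    · apply Subtype.ext
      rw [SubgroupClass.coe_pow, ← map_pow]
      simp
    · intro h4
      apply hne
      apply hinj
      rw [map_one]
      exact congrArg Subtype.val h4
  rw [← h3]
  exact orderOf_dvd_natCard _

/-- an element of order three -/
def three (k : Type*) [Field k] : Matrix.SpecialLinearGroup (Fin 2) k :=
  ⟨!![0, -1; 1, -1], by simp [Matrix.det_fin_two_of]⟩

theorem three_pow (k : Type*) [Field k] : (three k) ^ 3 = 1 := by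
  apply Subtype.ext
  rw [pow_three, Matrix.SpecialLinearGroup.coe_mul, Matrix.SpecialLinearGroup.coe_mul, three]
  ext i j
  fin_cases i <;> fin_cases j <;> simp [Matrix.mul_apply, Fin.sum_univ_two]

omit [FiniteDimensional k M] in
theorem three_dvd_card [Finite (LinearMap.GeneralLinearGroup k M)] {s t : M →ₗ[k] M}
    (h : Inv s t) (hs0 : s ≠ 0) (hs : QIn G s) (ht : QIn G t) : 3 ∣ Nat.card G := by
  have hinj : Function.Injective h.slHom := (MonoidHom.ker_eq_bot_iff _).1 (h.slHom_ker hs0)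
  have hne : three k ≠ 1 := by
    intro h1
    have h2 := congrArg (fun g : Matrix.SpecialLinearGroup (Fin 2) k => (g : Matrix (Fin 2) (Fin 2) k) 0 0) h1
    simp [three] at h2
  have h3 : orderOf (⟨h.slHom (three k), slHom_mem h hs ht _⟩ : G) = 3 := by
    have : Fact (Nat.Prime 3) := ⟨Nat.prime_three⟩
    refine orderOf_eq_prime ?_ ?_
    · apply Subtype.ext
      rw [SubgroupClass.coe_pow, ← map_pow, three_pow, map_one]
      rfl
    · intro h4
      apply hne
      apply hinj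
      rw [map_one]
      exact congrArg Subtype.val h4
  rw [← h3]
  exact orderOf_dvd_natCard _

/-- **The linear theorem.** -/
theorem exists_sl2 [Finite M] [Finite (LinearMap.GeneralLinearGroup k M)] [Finite k] {p : ℕ} [Fact p.Prime] [CharP k p]
    (hp : 5 ≤ p) (hC : Core G) (hO : HasOpp G) (P : Subgroup (LinearMap.GeneralLinearGroup k M))
    (hPG : ∀ a ∈ P, ∀ x ∈ G, a * x * a⁻¹ ∈ G) (hcop : (Nat.card P).Coprime (Nat.card G))
    {s' : M →ₗ[k] M} (hs' : IsMin G s') :
    ∃ φ : Matrix.SpecialLinearGroup (Fin 2) k →* LinearMap.GeneralLinearGroup k M,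
      (∀ g, φ g = 1 → ∀ h, g * h = h * g) ∧ (∀ g, φ g ∈ G) ∧ ∀ a ∈ P, ∀ g, a * φ g * a⁻¹ = φ g := by
  have h2k : (2 : k) ≠ 0 := by
    intro h
    have h1 : ((2 : ℕ) : k) = 0 := by exact_mod_cast h
    rw [CharP.cast_eq_zero_iff k p] at h1
    have := Nat.le_of_dvd (by norm_num) h1
    omega
  -- the orders
  obtain ⟨g', hg', hn'⟩ := hO _ hs'
  obtain ⟨t', ht', -, hi'⟩ := hC.inv hs' (hs'.conj hg') hn'
  have hd2 := two_dvd_card h2k hi' hs'.ne_zero hs'.1 ht'.1
  have hd3 := three_dvd_card hi' hs'.ne_zero hs'.1 ht'.1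
  have h6 : (Nat.card P).Coprime 6 := by
    refine Nat.Coprime.coprime_dvd_right ?_ hcop
    exact Nat.Coprime.mul_dvd_of_dvd_of_dvd (by norm_num) hd2 hd3
  have hsol : Group.IsSolvable P := by
    refine S0205.result ?_
    rw [← Nat.coprime_two_right]
    exact Nat.Coprime.coprime_dvd_right (by norm_num) h6
  have hPG' : ∀ a ∈ P, ∀ x ∈ G, a⁻¹ * x * a ∈ G := by
    intro a ha x hx
    have := hPG a⁻¹ (P.inv_mem ha) x hx
    rwa [inv_inv] at this
  obtain ⟨E, hET, hE⟩ := exists_fixed_root hC hO P hPG hcop hsol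
    (E₀ := sameActionSubgroup G (oneAdd s' hs'.sq)) ⟨_, oneAdd_mem_minimal hs', rfl⟩
  obtain ⟨σ, hσ, rfl⟩ := id hET
  set T := quadraticRootSubgroups G with hT
  set E := sameActionSubgroup G σ with hEdef
  set s := (σ : M →ₗ[k] M) - 1 with hs
  have hsm : IsMin G s := H740.mem_minimalQuadraticElements_iff.1 hσ
  -- the stabiliser of the root group
  let B : Subgroup (LinearMap.GeneralLinearGroup k M) :=
    { carrier := {a | a ∈ P ∧ conjBy E a = E}
      one_mem' := ⟨P.one_mem, conjBy_one E⟩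
      mul_mem' := by
        rintro a b ⟨ha, ha'⟩ ⟨hb, hb'⟩
        refine ⟨P.mul_mem ha hb, ?_⟩
        rw [← conjBy_conjBy, hb', ha']
      inv_mem' := by
        rintro a ⟨ha, ha'⟩
        refine ⟨P.inv_mem ha, ?_⟩
        rw [conjBy_inv_eq_iff, ha'] }
  have hBP : B ≤ P := fun b hb => hb.1
  have hBG : B ≤ Subgroup.normalizer (G : Set (LinearMap.GeneralLinearGroup k M)) :=
    fun b hb => mem_normalizer_of_conj (hPG b hb.1) (hPG' b hb.1)
  have hcopB : (Nat.card B).Coprime (Nat.card G) :=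
    Nat.Coprime.coprime_dvd_left (Subgroup.card_dvd_of_le hBP) hcop
  have hsolB : Group.IsSolvable B := by
    have := hsol
    exact Group.isSolvable_of_isSolvable_injective (Subgroup.inclusion_injective hBP)
  have h6B : (Nat.card B).Coprime 6 := Nat.Coprime.coprime_dvd_left (Subgroup.card_dvd_of_le hBP) h6
  have hsB : ∀ b ∈ B, Same (conjL b s) s := by
    intro b hb
    have h1 : b * σ * b⁻¹ ∈ E := by
      have := conj_mem_conjBy (self_mem_sameActionSubgroup hσ) b
      rwa [hb.2] at this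
    have h2 : conjL b s ∈ cl G s := by
      have h3 := (mem_E_iff hσ).1 h1
      rw [coe_conj_sub_one] at h3
      exact h3
    exact same_of_mem_cl hsm h2 (conjL_ne_zero hsm.ne_zero)
  -- the opposite root
  obtain ⟨g, hg, hn⟩ := hO _ hsm
  obtain ⟨t, ht, hi, htB⟩ := exists_fixed_opposite hp hC hsm (hsm.conj hg) hn B hBG hcopB hsB
  -- the fixed vector
  obtain ⟨s₀, hs₀, hs₀m, hs₀B⟩ := exists_fixed_vector hC h2k hsm ht hi B hBG hcopB h6B hsolB hsB htB
  obtain ⟨t₀, ht₀m, ht₀, hi₀⟩ := exists_inv_mem hC hsm ht hi hs₀m hs₀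
  have ht₀B : ∀ b ∈ B, conjL b t₀ = t₀ := by
    intro b hb
    have h1 := Inv_conj hi₀ b
    rw [hs₀B b hb] at h1
    have h2 : Same t₀ t := same_of_mem_cl ht ht₀m ht₀
    exact Inv.unique h1 hi₀ (((Same_conj h2 b).trans (htB b hb)).trans h2.symm)
  -- the subgroup
  set D := componentOf (FAdj T) T E with hD
  set K := ⨆ X ∈ D, X with hK
  have hED : E ∈ D := self_mem_componentOf hET
  set F := sameActionSubgroup G (oneAdd t ht.sq) with hF
  have hFT : F ∈ T := ⟨_, oneAdd_mem_minimal ht, rfl⟩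
  have hFD : F ∈ D := by
    refine ⟨hFT, Relation.ReflTransGen.single ⟨hET, hFT, ?_⟩⟩
    refine (rankOnePair_of_not_nilpotent hC hσ (oneAdd_mem_minimal ht) ?_).1
    rw [coe_oneAdd, add_sub_cancel_left]
    exact hi.not_isNilpotent hsm.ne_zero
  have hsK : QIn K s₀ := by
    refine qIn_of_mem hs₀m.1.1 fun c => ?_
    refine le_gen hED ?_
    rw [mem_E_iff hσ, coe_oneAdd, add_sub_cancel_left]
    exact (clS G s hsm.sq).smul_mem c hs₀m
  have htK : QIn K t₀ := by
    refine qIn_of_mem ht₀m.1.1 fun c => ?_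
    refine le_gen hFD ?_
    rw [E_oneAdd_eq ht, coe_oneAdd, add_sub_cancel_left]
    exact (clS G t ht.sq).smul_mem c ht₀m
  set ψ := hi₀.slHom with hψ
  have hψK : ∀ g, ψ g ∈ K := fun g => slHom_mem hi₀ hsK htK g
  have hKG : K ≤ G := gen_componentOf_le.trans gen_sigma_le
  have hψB : ∀ b ∈ B, ∀ g, b * ψ g * b⁻¹ = ψ g := by
    intro b hb g
    have h0 : ∀ {x : M →ₗ[k] M} (_ : x * x = 0), conjL b x = x → QIn (Subgroup.centralizer {b}) x := by
      intro x hx hxb
      refine qIn_of_mem hx fun c => ?_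
      rw [Subgroup.mem_centralizer_singleton_iff]
      apply Units.ext
      rw [Units.val_mul, Units.val_mul, coe_oneAdd]
      have h1 : (b : M →ₗ[k] M) * x = x * (b : M →ₗ[k] M) := by
        have h2 := (conjL_eq_iff b x x).1 hxb
        exact h2
      rw [mul_add, add_mul, mul_one, one_mul, mul_smul_comm, smul_mul_assoc, h1]
    have h3 := slHom_mem hi₀ (h0 hs₀m.1.1 (hs₀B b hb)) (h0 ht₀m.1.1 (ht₀B b hb)) g
    rw [Subgroup.mem_centralizer_singleton_iff] at h3
    rw [← hψ] at h3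
    rw [mul_inv_eq_iff_eq_mul]
    exact h3.symm
  have hcomm : ∀ a ∈ P, a ∉ B → ∀ x ∈ K, ∀ y ∈ K, Commute (a * x * a⁻¹) y := by
    intro a ha haB x hx y hy
    have h1 := (hE a ha).resolve_left (fun h => haB ⟨ha, h⟩)
    have h2 : conjBy K a ≤ Subgroup.centralizer (K : Set (LinearMap.GeneralLinearGroup k M)) := by
      rw [hK, conjBy_iSup]
      refine iSup_le fun X => ?_
      rw [conjBy_iSup]
      refine iSup_le fun hX => ?_
      rw [Subgroup.le_centralizer_iff]
      refine iSup₂_le fun Y hY => ?_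
      rw [← Subgroup.commutator_eq_bot_iff_le_centralizer, Subgroup.commutator_comm]
      exact h1 X hX Y hY
    exact (Subgroup.mem_centralizer_iff.1 (h2 (conj_mem_conjBy hx a)) y hy).symm
  obtain ⟨d, hd1, hd2, hd3⟩ := ZjDiag.exists_diag (J := ψ.range) (P := P) (by
      intro a ha
      by_cases haB : a ∈ B
      · left
        rintro _ ⟨g, rfl⟩
        exact hψB a haB g
      · right
        rintro _ ⟨g, rfl⟩ _ ⟨h, rfl⟩
        exact hcomm a ha haB _ (hψK g) _ (hψK h)) G (by
      rintro a ha _ ⟨g, rfl⟩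
      exact hPG a ha _ (hKG (hψK g)))
  have hinj : Function.Injective ψ := (MonoidHom.ker_eq_bot_iff _).1 (hi₀.slHom_ker hs₀)
  refine ⟨d.comp ψ.rangeRestrict, ?_, ?_, ?_⟩
  · intro g hg h
    have h1 := hd1 _ hg (ψ.rangeRestrict h)
    rw [← map_mul, ← map_mul] at h1
    exact hinj (congrArg Subtype.val h1)
  · intro g
    exact hd2 _
  · intro a ha g
    exact hd3 a ha _

end roots

end Cfsg.Agent.H220.Zj
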