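import Cfsg.Agent.H220.ZjLin
import Cfsg.Agent.S0022
import Cfsg.Agent.PLocal.StableOfNotInvolves
import Cfsg.Agent.PLocal.PConstrained
import Cfsg.Agent.Lib.ElemAbGL

/-!
Coprime operators, quadratic elements and sections `PSL₂(p)` of the fixed points (S3260).
-/

set_option autoImplicit false

namespace Cfsg.Agent.H220.ZjRed

open Cfsg Subgroup
open Cfsg.Agent.PLocal.StableOfNotInvolves (Inv)
open scoped commutatorElement

theorem le_normalizer_of_normal {G : Type*} [Group G] (A K : Subgroup G) [K.Normal] :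
    A ≤ normalizer (K : Set G) := by
  rw [normalizer_eq_top]
  exact le_top

/-- two coprime orders: one of the groups is solvable -/
theorem solvable_or {G : Type*} [Group G] [Finite G] (A K : Subgroup G) (hcop : (Nat.card A).Coprime (Nat.card K)) :
    Group.IsSolvable A ∨ Group.IsSolvable K := by
  by_cases h : Odd (Nat.card A)
  · exact Or.inl (S0205.result h)
  · right
    refine S0205.result ?_
    rw [Nat.not_odd_iff_even, even_iff_two_dvd] at h
    rw [← Nat.coprime_two_left]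
    exact Nat.Coprime.coprime_dvd_left h hcop

/-- lifting sections of the fixed points -/
theorem lift_inv {Γ Δ L S : Type*} [Group Γ] [Finite Γ] [Group Δ] [Group L] [Group S] (N A : Subgroup Γ) [N.Normal]
    (hcop : (Nat.card A).Coprime (Nat.card N)) (ρ : Γ →* Δ) (φ : L →* Δ) (hφN : ∀ g, φ g ∈ N.map ρ)
    (hφA : ∀ a ∈ A, ∀ g, ρ a * φ g * (ρ a)⁻¹ = φ g) (q : L →* S) (hq : Function.Surjective q)
    (hker : φ.ker ≤ q.ker) : Inv ↥(N ⊓ centralizer (A : Set Γ)) S := by
  set F : Subgroup Γ := N ⊓ centralizer (A : Set Γ) with hF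
  -- fixed points lift
  have hlift : ∀ g, ∃ x ∈ F, ρ x = φ g := by
    intro g
    obtain ⟨n, hn, hng⟩ := hφN g
    obtain ⟨c, hc, hnc⟩ := S0022.result A N (le_normalizer_of_normal _ _) hcop (solvable_or A N hcop) (N ⊓ ρ.ker) inf_le_left
      (le_normalizer_of_normal _ _) (le_normalizer_of_normal _ _) n hn (by
        intro a ha
        refine ⟨N.mul_mem (Normal.conj_mem inferInstance n hn a) (N.inv_mem hn), ?_⟩
        change _ ∈ ρ.ker
        rw [MonoidHom.mem_ker, map_mul, map_mul, map_mul, map_inv, map_inv, hng, hφA a ha g, mul_inv_cancel])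
    refine ⟨c, hc, ?_⟩
    have h1 : n⁻¹ * c ∈ ρ.ker := hnc.2
    rw [MonoidHom.mem_ker, map_mul, map_inv, inv_mul_eq_one] at h1
    rw [← h1, hng]
  let K : Subgroup ↥F := φ.range.comap (ρ.comp F.subtype)
  let f₁ : K →* φ.range := (ρ.comp F.subtype).subgroupComap φ.range
  have hf₁ : Function.Surjective f₁ := by
    rintro ⟨_, g, rfl⟩
    obtain ⟨x, hx, hxg⟩ := hlift g
    exact ⟨⟨⟨x, hx⟩, ⟨g, hxg.symm⟩⟩, Subtype.ext hxg⟩
  have hk : φ.rangeRestrict.ker ≤ q.ker := by
    rw [MonoidHom.ker_rangeRestrict]; exact hker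
  let f₂ : φ.range →* S := φ.rangeRestrict.liftOfRightInverse _
    (Function.rightInverse_surjInv φ.rangeRestrict_surjective) ⟨q, hk⟩
  have hf₂ : Function.Surjective f₂ := by
    intro s
    obtain ⟨g, rfl⟩ := hq s
    refine ⟨φ.rangeRestrict g, ?_⟩
    exact MonoidHom.liftOfRightInverse_comp_apply _ _ _ ⟨q, hk⟩ g
  exact ⟨K, f₂.comp f₁, hf₂.comp hf₁⟩

section lin

open Cfsg.Agent.H740 Cfsg.Agent.H742 Cfsg.Agent.H220.Zj

variable {p : ℕ} [Fact p.Prime]

theorem one_add_pow {M : Type*} [AddCommGroup M] [Module (ZMod p) M] {s : M →ₗ[ZMod p] M} (hs : s * s = 0) (n : ℕ) :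
    (1 + s) ^ n = 1 + (n : ZMod p) • s := by
  induction n with
  | zero => rw [pow_zero, Nat.cast_zero, zero_smul, add_zero]
  | succ n ih =>
    rw [pow_succ, ih, Nat.cast_succ, add_smul, one_smul]
    have : (1 + (n : ZMod p) • s) * (1 + s) = 1 + s + (n : ZMod p) • s + (n : ZMod p) • (s * s) := by
      rw [add_mul, one_mul, mul_add, mul_one, smul_mul_assoc]
      abel
    rw [this, hs, smul_zero, add_zero]
    abel

/-- a unipotent element has `p`-power order -/
theorem exists_pow_eq_one {M : Type*} [AddCommGroup M] [Module (ZMod p) M]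
    {g : LinearMap.GeneralLinearGroup (ZMod p) M} {n : ℕ} (hg : ((g : M →ₗ[ZMod p] M) - 1) ^ n = 0) :
    ∃ k : ℕ, g ^ p ^ k = 1 := by
  refine ⟨n, Units.ext ?_⟩
  rw [Units.val_pow_eq_pow_val, Units.val_one]
  have hp : p.Prime := Fact.out
  have h0 : ((p : ℕ) : M →ₗ[ZMod p] M) = 0 := by
    ext m
    rw [Module.End.natCast_apply, LinearMap.zero_apply, ← Nat.cast_smul_eq_nsmul (ZMod p), CharP.cast_eq_zero, zero_smul]
  obtain ⟨r, hr⟩ := Commute.exists_add_pow_prime_pow_eq hp (Commute.one_right ((g : M →ₗ[ZMod p] M) - 1)) n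
  rw [h0, zero_mul, zero_mul, zero_mul, add_zero, one_pow, sub_add_cancel] at hr
  rw [hr]
  have h1 : n ≤ p ^ n := (Nat.lt_pow_self hp.one_lt).le
  rw [pow_eq_zero_of_le h1 hg, zero_add]

/-- **No quadratic elements**, linear form. -/
theorem no_quadratic_lin {Γ : Type*} [Group Γ] [Finite Γ] (hp : 5 ≤ p) (N A : Subgroup Γ) [N.Normal]
    (hcop : (Nat.card A).Coprime (Nat.card N)) (hpA : (Nat.card A).Coprime p) (hNA : N ⊔ A = ⊤)
    (hinv : ¬ Inv ↥(N ⊓ centralizer (A : Set Γ)) (Matrix.ProjectiveSpecialLinearGroup (Fin 2) (ZMod p)))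
    {M : Type*} [AddCommGroup M] [Module (ZMod p) M] [Finite M] (ρ : Γ →* LinearMap.GeneralLinearGroup (ZMod p) M)
    (hO : ∀ U : Subgroup Γ, U.Normal → (∀ g ∈ U, ∃ k, ρ g ^ p ^ k = 1) → ∀ g ∈ U, ρ g = 1)
    (a : Γ) (ha : ((ρ a : M →ₗ[ZMod p] M) - 1) * ((ρ a : M →ₗ[ZMod p] M) - 1) = 0) : ρ a = 1 := by
  by_contra hne
  have hfinE : Finite (M →ₗ[ZMod p] M) := Finite.of_injective _ DFunLike.coe_injective
  have hfinG : Finite (LinearMap.GeneralLinearGroup (ZMod p) M) := Finite.of_injective _ Units.val_injective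
  have hfd : Module.Finite (ZMod p) M := Module.Finite.of_finite
  have hpp : p.Prime := Fact.out
  set s : M →ₗ[ZMod p] M := (ρ a : M →ₗ[ZMod p] M) - 1 with hs
  have hs0 : s ≠ 0 := sub_one_ne_zero.2 hne
  have hρs : (ρ a : M →ₗ[ZMod p] M) = 1 + s := by rw [hs]; abel
  set G₀ : Subgroup (LinearMap.GeneralLinearGroup (ZMod p) M) := N.map ρ with hG₀
  set P₀ : Subgroup (LinearMap.GeneralLinearGroup (ZMod p) M) := A.map ρ with hP₀
  have hpow : ∀ n : ℕ, ((ρ a ^ n : LinearMap.GeneralLinearGroup (ZMod p) M) : M →ₗ[ZMod p] M) = 1 + (n : ZMod p) • s := by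
    intro n
    rw [Units.val_pow_eq_pow_val, hρs, one_add_pow ha]
  -- `ρ a ∈ G₀`
  have haG : ρ a ∈ G₀ := by
    have h1 : a ^ N.index ∈ N := N.pow_index_mem a
    have h2 : N.index.Coprime p := by
      have h3 : N.index ∣ Nat.card A := by
        rw [← relIndex_top_right, ← hNA, relIndex_sup_left]
        exact relIndex_dvd_card _ _
      exact Nat.Coprime.coprime_dvd_left h3 hpA
    have h3 : ρ a ^ p = 1 := by
      apply Units.ext
      rw [hpow, CharP.cast_eq_zero, zero_smul, add_zero, Units.val_one]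
    obtain ⟨m, hm⟩ := Nat.exists_mul_mod_eq_one_of_coprime h2 hpp.one_lt
    have h4 : ρ a = ρ ((a ^ N.index) ^ m) := by
      rw [map_pow, map_pow, ← pow_mul]
      conv_lhs => rw [← pow_one (ρ a)]
      rw [pow_eq_pow_iff_modEq]
      refine Nat.ModEq.of_dvd (orderOf_dvd_of_pow_eq_one h3) ?_
      unfold Nat.ModEq
      rw [hm.2, Nat.mod_eq_of_lt hpp.one_lt]
    rw [h4]
    exact ⟨_, N.pow_mem h1 m, rfl⟩
  have hQ : QIn G₀ s := by
    refine ⟨ha, fun c => ⟨ρ a ^ c.val, G₀.pow_mem haG _, ?_⟩⟩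
    rw [hpow, ZMod.natCast_val, ZMod.cast_id]
  -- no unipotent normal subgroups
  have hNU : NoUnip G₀ := by
    intro U hU hUn hUu
    obtain ⟨n, hn⟩ := isUnipotentOn_def.1 hUu
    have hUp : ∀ u ∈ U, ∃ k : ℕ, u ^ p ^ k = 1 := by
      intro u hu
      refine exists_pow_eq_one (n := n) ?_
      have h1 := hn (List.replicate n u) (fun g hg => by rw [List.eq_of_mem_replicate hg]; exact hu)
        (List.length_replicate)
      rwa [List.map_replicate, List.prod_replicate] at h1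
    set Γ₁ := ρ.range with hΓ₁
    set N₁ : Subgroup Γ₁ := N.map ρ.rangeRestrict with hN₁
    have hN₁n : N₁.Normal := Normal.map inferInstance _ ρ.rangeRestrict_surjective
    have hcore : pCore p Γ₁ = ⊥ := by
      have h1 := Cfsg.Agent.Lib.Cores.pCore_normal (G := Γ₁) p
      have h2 := hO ((pCore p Γ₁).comap ρ.rangeRestrict) (h1.comap _) (by
        intro g hg
        obtain ⟨k, hk⟩ := Cfsg.Agent.Lib.Cores.pCore_isPGroup (G := Γ₁) p ⟨_, hg⟩
        refine ⟨k, ?_⟩
        have := congrArg (fun t : ↥(pCore p Γ₁) => ((t : Γ₁) : LinearMap.GeneralLinearGroup (ZMod p) M)) hk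
        simpa using this)
      rw [eq_bot_iff]
      intro y hy
      obtain ⟨g, rfl⟩ := ρ.rangeRestrict_surjective y
      exact Subtype.ext (h2 g hy)
    have hcoreN : pCore p N₁ = ⊥ := by
      have h1 := Cfsg.Agent.Lib.Cores.map_subtype_pCore p hN₁n
      rw [hcore, inf_bot_eq] at h1
      exact (Subgroup.map_eq_bot_iff_of_injective _ N₁.subtype_injective).1 h1
    let U₁ : Subgroup N₁ := (U.comap Γ₁.subtype).comap N₁.subtype
    have hU₁n : U₁.Normal := by
      refine ⟨?_⟩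
      rintro ⟨⟨x, hxΓ⟩, hxN⟩ hx ⟨⟨g, hgΓ⟩, hgN⟩
      have hgG : g ∈ G₀ := by
        obtain ⟨m, hm, hmg⟩ := hgN
        exact ⟨m, hm, congrArg Subtype.val hmg⟩
      change g * x * g⁻¹ ∈ U
      have h2 : x ∈ U := hx
      have h3 := H731.conj_mem_conjBy h2 g
      rwa [hUn g hgG] at h3
    have hU₁p : IsPGroup p U₁ := by
      rintro ⟨⟨⟨x, hxΓ⟩, hxN⟩, hx⟩
      obtain ⟨k, hk⟩ := hUp x hx
      refine ⟨k, Subtype.ext (Subtype.ext (Subtype.ext ?_))⟩
      simpa using hk
    have hU₁ : U₁ = ⊥ := by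
      rw [eq_bot_iff, ← hcoreN]
      exact Cfsg.Agent.Lib.Cores.le_pCore hU₁n hU₁p
    rw [eq_bot_iff]
    intro u hu
    obtain ⟨m, hm, hmu⟩ := hU hu
    have h1 : (⟨ρ.rangeRestrict m, m, hm, rfl⟩ : N₁) ∈ U₁ := by
      change ρ m ∈ U
      rw [hmu]; exact hu
    rw [hU₁, mem_bot] at h1
    rw [mem_bot, ← hmu]
    exact congrArg (fun t : N₁ => ((t : Γ₁) : LinearMap.GeneralLinearGroup (ZMod p) M)) h1
  -- the core
  have hk2 : ringChar (ZMod p) ≠ 2 := by
    rw [ZMod.ringChar_zmod_n]; omega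
  have hk3 : Nat.card (ZMod p) ≠ 3 := by
    rw [Nat.card_zmod]; omega
  have hC : Core G₀ := H742.core hk2 hk3
  have hOp := H742.hasOpp_of_noUnip hC hNU
  -- a minimal vector
  obtain ⟨s', hs'⟩ : ∃ s', IsMin G₀ s' := by
    classical
    have hex : ∃ n : ℕ, ∃ s', QIn G₀ s' ∧ s' ≠ 0 ∧ Module.finrank (ZMod p) (LinearMap.range s') = n :=
      ⟨_, s, hQ, hs0, rfl⟩
    obtain ⟨s', h1, h2, h3⟩ := Nat.find_spec hex
    refine ⟨s', h1, h2, fun N' hN' hN0 => ?_⟩
    rw [h3]
    exact Nat.find_min' hex ⟨N', hN', hN0, rfl⟩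
  obtain ⟨φ, hφ1, hφ2, hφ3⟩ := exists_sl2 hp hC hOp P₀ (by
      rintro _ ⟨b, hb, rfl⟩ _ ⟨x, hx, rfl⟩
      rw [← map_inv, ← map_mul, ← map_mul]
      exact ⟨_, Normal.conj_mem inferInstance x hx b, rfl⟩)
    (Nat.Coprime.coprime_dvd_left (PLocal.PConstrained.card_map_dvd ρ A)
      (Nat.Coprime.coprime_dvd_right (PLocal.PConstrained.card_map_dvd ρ N) hcop)) hs'
  refine hinv (lift_inv N A hcop ρ φ hφ2 (fun b hb g => hφ3 _ ⟨b, hb, rfl⟩ g)
    (QuotientGroup.mk' (center (Matrix.SpecialLinearGroup (Fin 2) (ZMod p)))) (QuotientGroup.mk'_surjective _) ?_)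
  rw [QuotientGroup.ker_mk']
  intro g hg
  rw [mem_center_iff]
  intro h
  exact (hφ1 g hg h).symm

/-- auxiliary form of `no_quadratic` with the module structure given -/
theorem no_quadratic_module {Γ : Type*} [Group Γ] [Finite Γ] (hp : 5 ≤ p) (N A : Subgroup Γ) [N.Normal]
    (hcop : (Nat.card A).Coprime (Nat.card N)) (hpA : (Nat.card A).Coprime p) (hNA : N ⊔ A = ⊤)
    (hinv : ¬ Inv ↥(N ⊓ centralizer (A : Set Γ)) (Matrix.ProjectiveSpecialLinearGroup (Fin 2) (ZMod p)))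
    {V : Type*} [CommGroup V] [Finite V] [Module (ZMod p) (Additive V)] (φ : Γ →* MulAut V)
    (hO : ∀ U : Subgroup Γ, U.Normal → (∀ g ∈ U, ∃ k, φ g ^ p ^ k = 1) → ∀ g ∈ U, φ g = 1)
    (a : Γ) (ha : ∀ v, φ a (φ a v * v⁻¹) = φ a v * v⁻¹) : φ a = 1 := by
  have : Finite (Additive V) := inferInstanceAs (Finite V)
  let e1 := Cfsg.Agent.Lib.ElemAbGL.mulAutEquivLinear (V := V) (p := p)
  let e2 := (LinearMap.GeneralLinearGroup.generalLinearEquiv (ZMod p) (Additive V)).symm
  let e : MulAut V ≃* LinearMap.GeneralLinearGroup (ZMod p) (Additive V) := e1.trans e2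
  have he : ∀ (f : MulAut V) (x : Additive V), (e f : Additive V →ₗ[ZMod p] Additive V) x = Additive.ofMul (f x.toMul) :=
    fun f x => rfl
  have key := no_quadratic_lin hp N A hcop hpA hNA hinv (e.toMonoidHom.comp φ) (by
    intro U hU h g hg
    have h1 := hO U hU (by
      intro g hg
      obtain ⟨k, hk⟩ := h g hg
      refine ⟨k, e.injective ?_⟩
      rw [map_pow, map_one]
      exact hk) g hg
    change e (φ g) = 1
    rw [h1, map_one]) a (by
    refine LinearMap.ext fun x => ?_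
    rw [Module.End.mul_apply, LinearMap.sub_apply, LinearMap.sub_apply, Module.End.one_apply, Module.End.one_apply,
      LinearMap.zero_apply, map_sub]
    change (e (φ a) : Additive V →ₗ[ZMod p] Additive V) ((e (φ a) : Additive V →ₗ[ZMod p] Additive V) x) -
      (e (φ a) : Additive V →ₗ[ZMod p] Additive V) x - ((e (φ a) : Additive V →ₗ[ZMod p] Additive V) x - x) = 0
    rw [he, he]
    have h1 := ha x.toMul
    rw [map_mul, map_inv] at h1
    rw [sub_eq_zero]
    exact congrArg Additive.ofMul (by simpa [div_eq_mul_inv] using h1))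
  apply e.injective
  rw [map_one]
  exact key

/-- **No quadratic elements**, for automorphisms of an elementary abelian group. -/
theorem no_quadratic {Γ : Type*} [Group Γ] [Finite Γ] (hp : 5 ≤ p) (N A : Subgroup Γ) [N.Normal]
    (hcop : (Nat.card A).Coprime (Nat.card N)) (hpA : (Nat.card A).Coprime p) (hNA : N ⊔ A = ⊤)
    (hinv : ¬ Inv ↥(N ⊓ centralizer (A : Set Γ)) (Matrix.ProjectiveSpecialLinearGroup (Fin 2) (ZMod p)))
    {V : Type*} [Group V] [Finite V] (hVc : ∀ v w : V, v * w = w * v) (hV : ∀ v : V, v ^ p = 1) (φ : Γ →* MulAut V)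
    (hO : ∀ U : Subgroup Γ, U.Normal → (∀ g ∈ U, ∃ k, φ g ^ p ^ k = 1) → ∀ g ∈ U, φ g = 1)
    (a : Γ) (ha : ∀ v, φ a (φ a v * v⁻¹) = φ a v * v⁻¹) : φ a = 1 := by
  let _ : CommGroup V := { (inferInstance : Group V) with mul_comm := hVc }
  have h : ∀ x : Additive V, p • x = 0 := fun x => congrArg Additive.ofMul (hV x.toMul)
  exact @no_quadratic_module p _ Γ _ _ hp N A _ hcop hpA hNA hinv V _ _ (AddCommGroup.zmodModule h) φ hO a ha

end lin

/-- **Stability** from the fixed points of coprime operators. -/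
theorem isPStableOn_of_action {Γ Δ : Type*} [Group Γ] [Finite Γ] [Group Δ] [Finite Δ] {p : ℕ} [Fact p.Prime]
    (hp : 5 ≤ p) (N A : Subgroup Γ) [N.Normal]
    (hcop : (Nat.card A).Coprime (Nat.card N)) (hpA : (Nat.card A).Coprime p) (hNA : N ⊔ A = ⊤)
    (hinv : ¬ Inv ↥(N ⊓ centralizer (A : Set Γ)) (Matrix.ProjectiveSpecialLinearGroup (Fin 2) (ZMod p)))
    (f : Γ →* Δ) (hf : Function.Surjective f) (P : Subgroup Δ) [P.Normal] (hP : IsPGroup p P) :
    IsPStableOn p P := by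
  intro a ha
  by_contra hcon
  obtain ⟨A₁, B, hA₁, hB, hBA, hAP, hchief, hx⟩ :=
    PLocal.ChiefReduction.exists_chief_of_notMem_pCore P hP a hcon
  apply hx
  -- pass to `Δ / B`, `V = A₁ / B`
  let π : Δ →* Δ ⧸ B := QuotientGroup.mk' B
  have hπ : Function.Surjective π := QuotientGroup.mk'_surjective B
  let V : Subgroup (Δ ⧸ B) := A₁.map π
  have hVn : V.Normal := hA₁.map π hπ
  have hVp : IsPGroup p V := (hP.to_le hAP).map π
  have hmin : ∀ N : Subgroup (Δ ⧸ B), N.Normal → N ≤ V → N = ⊥ ∨ N = V := by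
    intro N hN hNV
    have h1 : B ≤ N.comap π := by
      intro b hb
      rw [Subgroup.mem_comap]
      have : π b = 1 := (QuotientGroup.eq_one_iff b).mpr hb
      rw [this]; exact N.one_mem
    have h2 : N.comap π ≤ A₁ := by
      have := Subgroup.comap_mono (f := π) hNV
      rwa [Subgroup.comap_map_eq_self] at this
      rw [QuotientGroup.ker_mk']; exact hBA.le
    have h3 : (N.comap π).map π = N := Subgroup.map_comap_eq_self_of_surjective hπ N
    rcases hchief (N.comap π) (hN.comap π) h1 h2 with h | h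
    · left
      rw [← h3, h, eq_bot_iff]
      rintro _ ⟨b, hb, rfl⟩
      exact (QuotientGroup.eq_one_iff b).mpr hb
    · right
      rw [← h3, h]
  have hVe := PLocal.ChiefReduction.isElementaryAbelian_of_minimal hVn hVp hmin
  let φ : (Δ ⧸ B) →* MulAut V := MulAut.conjNormal
  have hφ : ∀ (g : Δ ⧸ B) (v : V), ((φ g v : V) : Δ ⧸ B) = g * v * g⁻¹ := fun g v =>
    MulAut.conjNormal_apply g v
  have hker : ∀ g : Δ ⧸ B, φ g = 1 ↔ g ∈ Subgroup.centralizer (V : Set (Δ ⧸ B)) := by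
    intro g
    rw [Subgroup.mem_centralizer_iff]
    constructor
    · intro h v hv
      have h1 := hφ g ⟨v, hv⟩
      rw [h] at h1
      have h2 : v = g * v * g⁻¹ := h1
      calc v * g = (g * v * g⁻¹) * g := by rw [← h2]
        _ = g * v := by group
    · intro h
      ext v
      rw [hφ]
      have := h v v.2
      change g * v * g⁻¹ = v
      rw [← this, mul_inv_cancel_right]
  obtain ⟨a', rfl⟩ := hf a
  let ψ : Γ →* MulAut V := φ.comp (π.comp f)
  have hsurj : Function.Surjective (π.comp f) := hπ.comp hf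
  have h1 : ψ a' = 1 := by
    refine no_quadratic hp N A hcop hpA hNA hinv
      (fun x y => Subtype.ext (congrArg Subtype.val (hVe.1.is_comm.comm x y)))
      (fun x => Subtype.ext (by simpa using hVe.2 x x.2)) ψ ?_ a' ?_
    · intro U hU h g hg
      have h2 := PLocal.ChiefReduction.le_centralizer_of_minimal hVn hVp hmin (R := U.map (π.comp f))
        (hU.map _ hsurj) (by
          rintro _ ⟨g, hg, rfl⟩
          obtain ⟨k, hk⟩ := h g hg
          refine ⟨k, (hker _).1 ?_⟩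
          rw [map_pow]
          exact hk)
      exact (hker _).2 (h2 ⟨g, hg, rfl⟩)
    · rintro ⟨v, x, hxA, rfl⟩
      apply Subtype.ext
      have h1 := PLocal.ActionStable.commute_of_commutator_eq_bot ha x (hAP hxA)
      have h2 : (((φ (π (f a')) ⟨π x, x, hxA, rfl⟩) * (⟨π x, x, hxA, rfl⟩ : V)⁻¹ : V) : Δ ⧸ B) =
          π (⁅x, f a'⁆⁻¹) := by
        rw [commutatorElement_def]
        push_cast
        rw [hφ]
        simp only [map_mul, map_inv]
        group
      change ((φ (π (f a')) ((φ (π (f a')) ⟨π x, x, hxA, rfl⟩) * (⟨π x, x, hxA, rfl⟩ : V)⁻¹) : V) : Δ ⧸ B)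
        = (((φ (π (f a')) ⟨π x, x, hxA, rfl⟩) * (⟨π x, x, hxA, rfl⟩ : V)⁻¹ : V) : Δ ⧸ B)
      have h3 : f a' * ⁅x, f a'⁆⁻¹ * (f a')⁻¹ = ⁅x, f a'⁆⁻¹ := by
        rw [mul_inv_eq_iff_eq_mul]
        have h4 : Commute (f a') ⁅x, f a'⁆ := h1
        exact h4.inv_right.eq
      rw [hφ, h2, ← map_mul, ← map_inv, ← map_mul, h3]
  exact (hker _).mp h1

end Cfsg.Agent.H220.ZjRed
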