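import Cfsg.Agent.H220.ZjFix

/-!
Operators fixing a root group and an opposite one fix a nontrivial element of the root group (S3260).
-/

set_option autoImplicit false

namespace Cfsg.Agent.H220.Zj

open Cfsg Cfsg.Agent.H740 Cfsg.Agent.H742 Cfsg.Agent.H731

/-! ### Large orbits of a normal subgroup of index prime to 6 -/

theorem relIndex_eq_ncard {Γ : Type*} [Group Γ] {X : Type*} [MulAction Γ X] (T : Subgroup Γ) (x : X) :
    (MulAction.stabilizer Γ x).relIndex T = {z | ∃ h ∈ T, h • x = z}.ncard := by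
  have h3 : (MulAction.stabilizer T x).index = (MulAction.orbit T x).ncard := MulAction.index_stabilizer T x
  have h4 : MulAction.stabilizer T x = (MulAction.stabilizer Γ x).subgroupOf T := by
    ext y
    rfl
  have h5 : MulAction.orbit T x = {z | ∃ h ∈ T, h • x = z} := by
    ext z
    constructor
    · rintro ⟨⟨h, hh⟩, rfl⟩
      exact ⟨h, hh, rfl⟩
    · rintro ⟨h, hh, rfl⟩
      exact ⟨⟨h, hh⟩, rfl⟩
  rw [h4, h5] at h3
  exact h3

theorem orbit_eq_of_index {Γ : Type*} [Group Γ] [Finite Γ] {X : Type*} [MulAction Γ X] (H : Subgroup Γ) [H.Normal]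
    (hind : H.index.Coprime 6) (x : X) (Y : Set X) (hY : Y.Finite) (hYx : ∀ g : Γ, g • x ∈ Y)
    (hcard : Y.ncard ≤ 4 * {z | ∃ h ∈ H, h • x = z}.ncard) (g : Γ) : ∃ h ∈ H, g • x = h • x := by
  classical
  set S := MulAction.stabilizer Γ x with hS
  set O := {z | ∃ h ∈ H, h • x = z} with hO
  have hsup : ∀ g : Γ, g ∈ H ⊔ S → ∃ h ∈ H, g • x = h • x := by
    intro g hg
    rw [← SetLike.mem_coe, Subgroup.normal_mul] at hg
    obtain ⟨h, hh, s, hs, rfl⟩ := Set.mem_mul.1 hg
    exact ⟨h, hh, by rw [mul_smul, MulAction.mem_stabilizer_iff.1 hs]⟩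
  apply hsup
  -- the orbits of cosets
  have hOfin : O.Finite := hY.subset (by rintro z ⟨h, -, rfl⟩; exact hYx h)
  have hOne : O.Nonempty := ⟨x, 1, H.one_mem, one_smul _ _⟩
  have hOpos : 0 < O.ncard := (Set.ncard_pos hOfin).2 hOne
  have h1 : S.index = (MulAction.orbit Γ x).ncard := MulAction.index_stabilizer Γ x
  have h2 : S.relIndex (H ⊔ S) = O.ncard := by
    rw [relIndex_eq_ncard]
    congr 1
    ext z
    constructor
    · rintro ⟨g, hg, rfl⟩
      obtain ⟨h, hh, he⟩ := hsup g hg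
      exact ⟨h, hh, he.symm⟩
    · rintro ⟨h, hh, rfl⟩
      exact ⟨h, Subgroup.mem_sup_left hh, rfl⟩
  have h3 : (MulAction.orbit Γ x).ncard ≤ Y.ncard := by
    refine Set.ncard_le_ncard ?_ hY
    rintro _ ⟨g, rfl⟩
    exact hYx g
  have h4 : S.relIndex (H ⊔ S) * (H ⊔ S).index = S.index := Subgroup.relIndex_mul_index le_sup_right
  rw [h2, h1] at h4
  have h5 : (H ⊔ S).index ≤ 4 := by
    have h6 : O.ncard * (H ⊔ S).index ≤ O.ncard * 4 := by rw [h4, mul_comm _ 4]; omega
    exact Nat.le_of_mul_le_mul_left h6 hOpos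
  have h6 : (H ⊔ S).index ∣ H.index := Subgroup.index_dvd_of_le le_sup_left
  have h7 : (H ⊔ S).index.Coprime 6 := Nat.Coprime.coprime_dvd_left h6 hind
  have h8 : (H ⊔ S).index ≠ 0 := Subgroup.index_ne_zero_of_finite
  have h9 : (H ⊔ S).index = 1 := by
    interval_cases h : (H ⊔ S).index
    · exact absurd rfl h8
    · rfl
    · exact absurd h7 (by decide)
    · exact absurd h7 (by decide)
    · exact absurd h7 (by decide)
  rw [Subgroup.index_eq_one.1 h9]
  exact Subgroup.mem_top g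

/-- the version inside an ambient group -/
theorem orbit_eq_of_normalizes {Γ : Type*} [Group Γ] [Finite Γ] {X : Type*} [MulAction Γ X] (B H : Subgroup Γ)
    (hB : B ≤ Subgroup.normalizer (H : Set Γ)) (h6 : (Nat.card B).Coprime 6) (x : X) (Y : Set X) (hY : Y.Finite)
    (hYx : ∀ g ∈ B ⊔ H, g • x ∈ Y) (hcard : Y.ncard ≤ 4 * {z | ∃ h ∈ H, h • x = z}.ncard) {b : Γ} (hb : b ∈ B) :
    ∃ h ∈ H, b • x = h • x := by
  set K := B ⊔ H with hK
  have hn : (H.subgroupOf K).Normal :=
    Subgroup.normal_subgroupOf_of_le_normalizer (sup_le hB Subgroup.le_normalizer)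
  have hind : (H.subgroupOf K).index.Coprime 6 := by
    have e0 : H ⊔ B = K := sup_comm H B
    have e1 : H.subgroupOf K ⊔ B.subgroupOf K = ⊤ := by
      rw [← Subgroup.subgroupOf_sup le_sup_right le_sup_left, e0, Subgroup.subgroupOf_self]
    have e2 : (H.subgroupOf K).relIndex (H.subgroupOf K ⊔ B.subgroupOf K) = (H.subgroupOf K).relIndex (B.subgroupOf K) :=
      Subgroup.relIndex_sup_left _ _
    rw [e1, Subgroup.relIndex_top_right] at e2
    rw [e2]
    refine Nat.Coprime.coprime_dvd_left (Subgroup.relIndex_dvd_card _ _) ?_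
    rwa [Nat.card_congr (Subgroup.subgroupOfEquivOfLe (le_sup_left : B ≤ K)).toEquiv]
  have h1 : {z | ∃ h ∈ H.subgroupOf K, h • x = z} = {z | ∃ h ∈ H, h • x = z} := by
    ext z
    constructor
    · rintro ⟨⟨h, hhK⟩, hh, rfl⟩
      exact ⟨h, hh, rfl⟩
    · rintro ⟨h, hh, rfl⟩
      exact ⟨⟨h, Subgroup.mem_sup_right hh⟩, hh, rfl⟩
  obtain ⟨⟨h, hhK⟩, hh, he⟩ := orbit_eq_of_index (H.subgroupOf K) hind x Y hY (fun g => hYx g g.2)
    (by rw [h1]; exact hcard) ⟨b, Subgroup.mem_sup_left hb⟩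
  exact ⟨h, hh, he⟩

/-! ### Weyl elements -/

variable {k : Type*} [Field k] {M : Type*} [AddCommGroup M] [Module k M]
variable {G : Subgroup (LinearMap.GeneralLinearGroup k M)}

theorem w_mem {s t : M →ₗ[k] M} (h : Inv s t) (hs : QIn G s) (ht : QIn G t) : h.w ∈ G :=
  G.mul_mem (G.mul_mem hs.mem_one (G.inv_mem ht.mem_one)) hs.mem_one

theorem conj_w_right {y y' z : M →ₗ[k] M} (h : Inv y y') (hk : LinearMap.ker y' ≤ LinearMap.ker z)
    (hr : LinearMap.range z ≤ LinearMap.range y') : conjL h.w z = -(y * z * y) := by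
  have h1 : y' * z = 0 := mul_of_range_le_ker (hr.trans (range_le_ker_of_mul h.tt))
  have h2 : y' * y * z = z := h.symm.st_mul hr
  have h3 : z * (y * y') = z := h.mul_st hk
  rw [conjL_eq_iff, h.coe_w]
  have e1 : (1 - (y * y' + y' * y) + y - y') * z = z - y * (y' * z) - y' * y * z + y * z - y' * z := by noncomm_ring
  have e2 : -(y * z * y) * (1 - (y * y' + y' * y) + y - y') =
      -(y * z * y) + y * z * (y * y) * y' + y * z * (y * y' * y) - y * z * (y * y) + y * (z * (y * y')) := by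
    noncomm_ring
  rw [e1, e2, h1, h2, h3, h.ss, h.sts]
  simp

theorem conj_w_left {y y' z : M →ₗ[k] M} (h : Inv y y') (hk : LinearMap.ker y ≤ LinearMap.ker z)
    (hr : LinearMap.range z ≤ LinearMap.range y) : conjL h.w z = -(y' * z * y') := by
  have h1 : y * z = 0 := mul_of_range_le_ker (hr.trans (range_le_ker_of_mul h.ss))
  have h2 : y * y' * z = z := h.st_mul hr
  have h3 : z * (y' * y) = z := h.symm.mul_st hk
  rw [conjL_eq_iff, h.coe_w]
  have e1 : (1 - (y * y' + y' * y) + y - y') * z = z - y * y' * z - y' * (y * z) + y * z - y' * z := by noncomm_ring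
  have e2 : -(y' * z * y') * (1 - (y * y' + y' * y) + y - y') =
      -(y' * z * y') + y' * z * (y' * y * y') + y' * z * (y' * y') * y - y' * (z * (y' * y)) + y' * z * (y' * y') := by
    noncomm_ring
  rw [e1, e2, h1, h2, h3, h.tt, h.tst]
  simp

/-- the elements preserving kernel and range of `s` -/
def NS (s : M →ₗ[k] M) : Subgroup (LinearMap.GeneralLinearGroup k M) where
  carrier := {g | Same (conjL g s) s}
  one_mem' := by
    change Same (conjL 1 s) s
    rw [conjL_one_left]; exact Same.refl s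
  mul_mem' := by
    intro a b ha hb
    change Same (conjL (a * b) s) s
    rw [conjL_mul]
    exact (Same_conj hb a).trans ha
  inv_mem' := fun ha => Same_conj_inv ha

theorem mem_NS {s : M →ₗ[k] M} {g : LinearMap.GeneralLinearGroup k M} : g ∈ NS s ↔ Same (conjL g s) s := Iff.rfl

/-- linear maps with the conjugation action -/
def EX (k : Type*) [Field k] (M : Type*) [AddCommGroup M] [Module k M] := M →ₗ[k] M

/-- the conjugation action on linear maps -/
instance conjActEX : MulAction (LinearMap.GeneralLinearGroup k M) (EX k M) where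
  smul g x := (conjL g (show M →ₗ[k] M from x) : M →ₗ[k] M)
  one_smul x := conjL_one_left (show M →ₗ[k] M from x)
  mul_smul g h x := conjL_mul g h (show M →ₗ[k] M from x)

theorem smul_EX (g : LinearMap.GeneralLinearGroup k M) (x : M →ₗ[k] M) :
    (g • (show EX k M from x) : EX k M) = (conjL g x : M →ₗ[k] M) := rfl

theorem mem_cl_of_same {s x : M →ₗ[k] M} (hx : QIn G x) (h : Same x s) : x ∈ cl G s :=
  ⟨hx, h.1.ge, h.2.le⟩

variable [FiniteDimensional k M]

/-- partners -/
theorem exists_inv_mem (hC : Core G) {s t : M →ₗ[k] M} (hs : IsMin G s) (ht : IsMin G t) (h : Inv s t)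
    {a : M →ₗ[k] M} (ha : a ∈ cl G s) (ha0 : a ≠ 0) : ∃ a' ∈ cl G t, a' ≠ 0 ∧ Inv a a' := by
  have hamin := isMin_of_mem_cl hs ha ha0
  have hn : ¬ IsNilpotent (a * t) := by
    rw [hC.not_isNilpotent_congr hamin ht hs ht (same_of_mem_cl hs ha ha0) (Same.refl t)]
    exact h.not_isNilpotent hs.ne_zero
  obtain ⟨a', ha', hsame, hi⟩ := hC.inv hamin ht hn
  exact ⟨a', mem_cl_of_same ha'.1 hsame, ha'.ne_zero, hi⟩

omit [FiniteDimensional k M] in
theorem sandwich_mem {s t : M →ₗ[k] M} {a a' : M →ₗ[k] M}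
    (ha : a ∈ cl G s) (ha' : a' ∈ cl G t) (hi : Inv a a') {z : M →ₗ[k] M} (hz : z ∈ cl G t)
    (hk : LinearMap.ker a' ≤ LinearMap.ker t) (hr : LinearMap.range t ≤ LinearMap.range a') : a * z * a ∈ cl G s := by
  have h1 := conj_w_right hi (hk.trans hz.2.1) (hz.2.2.trans hr)
  have h2 : QIn G (a * z * a) := by
    have h3 := hz.1.conj (w_mem hi ha.1 ha'.1)
    rw [← conjL_apply, h1] at h3
    have := h3.neg
    rwa [neg_neg] at this
  refine ⟨h2, ?_, ?_⟩
  · intro m hm
    have h3 := ha.2.1 hm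
    rw [LinearMap.mem_ker] at h3 ⊢
    rw [Module.End.mul_apply, h3, map_zero]
  · rintro _ ⟨m, rfl⟩
    exact ha.2.2 ⟨z (a m), rfl⟩

theorem exists_fixed_vector [Finite M] [Finite (LinearMap.GeneralLinearGroup k M)] (hC : Core G) (h2k : (2 : k) ≠ 0)
    {s t : M →ₗ[k] M} (hs : IsMin G s) (ht : IsMin G t) (h : Inv s t)
    (B : Subgroup (LinearMap.GeneralLinearGroup k M))
    (hBG : B ≤ Subgroup.normalizer (G : Set (LinearMap.GeneralLinearGroup k M)))
    (hcop : (Nat.card B).Coprime (Nat.card G)) (h6 : (Nat.card B).Coprime 6) (hsol : Group.IsSolvable B)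
    (hsB : ∀ b ∈ B, Same (conjL b s) s) (htB : ∀ b ∈ B, Same (conjL b t) t) :
    ∃ s₀, s₀ ≠ 0 ∧ s₀ ∈ cl G s ∧ ∀ b ∈ B, conjL b s₀ = s₀ := by
  classical
  have hfinE : Finite (M →ₗ[k] M) := Finite.of_injective _ DFunLike.coe_injective
  set H : Subgroup (LinearMap.GeneralLinearGroup k M) := G ⊓ NS s ⊓ NS t with hH
  have hBH : B ≤ Subgroup.normalizer (H : Set (LinearMap.GeneralLinearGroup k M)) := by
    intro b hb
    have key : ∀ b ∈ B, ∀ x ∈ H, b * x * b⁻¹ ∈ H := by
      intro b hb x hx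
      refine ⟨⟨(Subgroup.mem_normalizer_iff.1 (hBG hb) x).1 hx.1.1, ?_⟩, ?_⟩
      · exact (NS s).mul_mem ((NS s).mul_mem (hsB b hb) hx.1.2) ((NS s).inv_mem (hsB b hb))
      · exact (NS t).mul_mem ((NS t).mul_mem (htB b hb) hx.2) ((NS t).inv_mem (htB b hb))
    refine mem_normalizer_of_conj (key b hb) ?_
    intro x hx
    have := key b⁻¹ (B.inv_mem hb) x hx
    rwa [inv_inv] at this
  -- the Jordan algebra
  set f : (M →ₗ[k] M) →+ (M →ₗ[k] M) := AddMonoidHom.mulRight t with hf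
  set Φ : AddSubgroup (M →ₗ[k] M) := (clS G s hs.sq).toAddSubgroup.map f with hΦ
  have hΦm : ∀ x, x ∈ Φ ↔ ∃ a ∈ cl G s, a * t = x := fun x => Iff.rfl
  have hat : ∀ a ∈ cl G s, a * (t * s) = a := fun a ha => h.symm.mul_st ha.2.1
  have hsta : ∀ a ∈ cl G s, s * t * a = a := fun a ha => h.st_mul ha.2.2
  have hquad : ∀ a ∈ cl G s, ∀ b ∈ cl G s, a * (t * b * t) * a ∈ cl G s := by
    intro a ha b hb
    by_cases ha0 : a = 0
    · rw [ha0, zero_mul, zero_mul]
      exact (clS G s hs.sq).zero_mem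
    obtain ⟨a', ha', ha'0, hi⟩ := exists_inv_mem hC hs ht h ha ha0
    have hsame := same_of_mem_cl ht ha' ha'0
    have hz : t * b * t ∈ cl G t :=
      sandwich_mem (self_mem_cl ht.1) (self_mem_cl hs.1) h.symm hb le_rfl le_rfl
    exact sandwich_mem ha ha' hi hz hsame.1.le hsame.2.ge
  have hcount : {x : M →ₗ[k] M | x ∈ Φ ∧ x ≠ 0}.ncard ≤
      4 * {y : M →ₗ[k] M | ∃ x ∈ Φ, x ≠ 0 ∧ x * x = y}.ncard := by
    refine ZjSq.card_le_corner (e := s * t) ⟨s, self_mem_cl hs.1, rfl⟩ ?_ ?_ ?_ ?_ ?_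
    · rintro _ ⟨a, ha, rfl⟩
      change s * t * (a * t) = a * t
      rw [← mul_assoc, hsta a ha]
    · rintro _ ⟨a, ha, rfl⟩
      change a * t * (s * t) = a * t
      rw [mul_assoc, ← mul_assoc t s t, h.tst]
    · rintro _ ⟨a, ha, rfl⟩ _ ⟨b, hb, rfl⟩
      refine ⟨_, hquad a ha b hb, ?_⟩
      change a * (t * b * t) * a * t = a * t * (b * t) * (a * t)
      simp only [mul_assoc]
    · rintro _ ⟨a, ha, rfl⟩ hne
      have ha0 : a ≠ 0 := by
        rintro rfl
        exact hne (map_zero f)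
      obtain ⟨a', ha', ha'0, hi⟩ := exists_inv_mem hC hs ht h ha ha0
      have hsa := same_of_mem_cl hs ha ha0
      have hsa' := same_of_mem_cl ht ha' ha'0
      have e1 : a' * (s * t) = a' := h.mul_st ha'.2.1
      have e2 : s * t * (a * a') = a * a' := by rw [← mul_assoc, hsta a ha]
      have e3 : t * (a * a') = t := hi.mul_st hsa'.1.le
      have e4 : a * a' = s * t := by rw [← e2, mul_assoc, e3]
      have e5 : s * (a' * a) = s := hi.symm.mul_st hsa.1.le
      refine ⟨s * a', ?_, ?_, ?_, ?_⟩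
      · rw [← mul_assoc, h.sts]
      · rw [mul_assoc, e1]
      · change a * t * (s * a') = s * t
        rw [mul_assoc, ← mul_assoc t s a', ← mul_assoc a, hat a ha, e4]
      · change s * a' * (a * t) = s * t
        rw [mul_assoc, ← mul_assoc a' a t, ← mul_assoc s, e5]
    · intro h0
      have h1 : (s * t + s * t) * s = s + s := by rw [add_mul, h.sts]
      rw [h0, zero_mul] at h1
      have h3 : (2 : k) • s = 0 := by rw [two_smul]; exact h1.symm
      exact hs.ne_zero ((smul_eq_zero.1 h3).resolve_left h2k)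
  set Y : Set (M →ₗ[k] M) := {a | a ∈ cl G s ∧ a ≠ 0} with hY
  have hinj : Set.InjOn (fun a => a * t) (cl G s) := by
    intro a ha b hb hab
    have h1 : a * t * s = b * t * s := by
      change a * t = b * t at hab
      rw [hab]
    rw [mul_assoc, mul_assoc, hat a ha, hat b hb] at h1
    exact h1
  have hc1 : {x : M →ₗ[k] M | x ∈ Φ ∧ x ≠ 0}.ncard = Y.ncard := by
    have e : {x : M →ₗ[k] M | x ∈ Φ ∧ x ≠ 0} = (fun a => a * t) '' Y := by
      ext x
      constructor
      · rintro ⟨⟨a, ha, rfl⟩, hne⟩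
        refine ⟨a, ⟨ha, ?_⟩, rfl⟩
        rintro rfl
        exact hne (map_zero f)
      · rintro ⟨a, ⟨ha, ha0⟩, rfl⟩
        refine ⟨⟨a, ha, rfl⟩, ?_⟩
        intro h1
        apply ha0
        have h3 := hat a ha
        change a * t = 0 at h1
        rw [← mul_assoc, h1, zero_mul] at h3
        exact h3.symm
    rw [e]
    exact Set.InjOn.ncard_image (hinj.mono fun a ha => ha.1)
  set O : Set (M →ₗ[k] M) := {z | ∃ g ∈ H, conjL g s = z} with hO
  have hc2 : {y : M →ₗ[k] M | ∃ x ∈ Φ, x ≠ 0 ∧ x * x = y}.ncard ≤ O.ncard := by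
    have e : {y : M →ₗ[k] M | ∃ x ∈ Φ, x ≠ 0 ∧ x * x = y} ⊆ (fun a => a * t) '' O := by
      rintro _ ⟨_, ⟨a, ha, rfl⟩, hne, rfl⟩
      have ha0 : a ≠ 0 := by
        rintro rfl
        exact hne (map_zero f)
      obtain ⟨a', ha', ha'0, hi⟩ := exists_inv_mem hC hs ht h ha ha0
      have hsa := same_of_mem_cl hs ha ha0
      have hsa' := same_of_mem_cl ht ha' ha'0
      have hwa : hi.w ∈ G := w_mem hi ha.1 ha'.1
      have hws : h.w ∈ G := w_mem h hs.1 ht.1
      -- the Weyl elements swap the two classes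
      have swap : ∀ {b b' : M →ₗ[k] M} (hi : Inv b b'), Same b s → Same b' t → hi.w ∈ G →
          Same (conjL hi.w s) t ∧ Same (conjL hi.w t) s := by
        intro b b' hi hb hb' hw
        have hwc : ∀ x ∈ G, hi.w * x * hi.w⁻¹ ∈ G := fun x hx => G.mul_mem (G.mul_mem hw hx) (G.inv_mem hw)
        have m1 := IsMin_conj hs hwc
        have m2 := IsMin_conj ht hwc
        have c1 := conj_w_left hi (z := s) hb.1.le hb.2.ge
        have c2 := conj_w_right hi (z := t) hb'.1.le hb'.2.ge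
        refine ⟨?_, ?_⟩
        · refine same_of_mem_cl ht ⟨m1.1, ?_, ?_⟩ m1.ne_zero
          · intro m hm
            rw [← hb'.1, LinearMap.mem_ker] at hm
            rw [c1, LinearMap.mem_ker, LinearMap.neg_apply, Module.End.mul_apply, hm, map_zero, neg_zero]
          · rintro _ ⟨m, rfl⟩
            rw [c1, ← hb'.2, LinearMap.neg_apply]
            exact Submodule.neg_mem _ ⟨s (b' m), rfl⟩
        · refine same_of_mem_cl hs ⟨m2.1, ?_, ?_⟩ m2.ne_zero
          · intro m hm
            rw [← hb.1, LinearMap.mem_ker] at hm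
            rw [c2, LinearMap.mem_ker, LinearMap.neg_apply, Module.End.mul_apply, hm, map_zero, neg_zero]
          · rintro _ ⟨m, rfl⟩
            rw [c2, ← hb.2, LinearMap.neg_apply]
            exact Submodule.neg_mem _ ⟨t (b m), rfl⟩
      obtain ⟨s1, s2⟩ := swap h (Same.refl s) (Same.refl t) hws
      obtain ⟨a1, a2⟩ := swap hi hsa hsa' hwa
      refine ⟨a * t * a, ⟨hi.w * h.w, ⟨⟨G.mul_mem hwa hws, ?_⟩, ?_⟩, ?_⟩, ?_⟩
      · change Same (conjL _ s) s
        rw [conjL_mul]
        exact (Same_conj s1 _).trans a2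
      · change Same (conjL _ t) t
        rw [conjL_mul]
        exact (Same_conj s2 _).trans a1
      · change conjL (hi.w * h.w) s = a * t * a
        rw [conjL_mul, conj_w_left h le_rfl le_rfl, h.tst, map_neg, conj_w_right hi hsa'.1.le hsa'.2.ge, neg_neg]
      · change a * t * a * t = a * t * (a * t)
        simp only [mul_assoc]
    refine (Set.ncard_le_ncard e (Set.toFinite _)).trans ?_
    exact Set.ncard_image_le (Set.toFinite _)
  have hYO : Y.ncard ≤ 4 * O.ncard := by
    rw [← hc1]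
    exact hcount.trans (Nat.mul_le_mul_left 4 hc2)
  have hstab : ∀ g ∈ B ⊔ H, conjL g s ∈ Y := by
    have hle : B ⊔ H ≤ Subgroup.normalizer (G : Set (LinearMap.GeneralLinearGroup k M)) ⊓ NS s := by
      refine sup_le (fun b hb => ⟨hBG hb, hsB b hb⟩) (fun x hx => ⟨Subgroup.le_normalizer hx.1.1, hx.1.2⟩)
    intro g hg
    obtain ⟨h1, h3⟩ := hle hg
    have hm := IsMin_conj hs (g := g) (fun x hx => (Subgroup.mem_normalizer_iff.1 h1 x).1 hx)
    exact ⟨mem_cl_of_same hm.1 h3, hm.ne_zero⟩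
  have hcopH : (Nat.card B).Coprime (Nat.card H) :=
    Nat.Coprime.coprime_dvd_right (Subgroup.card_dvd_of_le (inf_le_left.trans inf_le_left)) hcop
  obtain ⟨g, hg, hfix⟩ := Solvable.Glauberman.exists_smul_fixed B H hBH hcopH (Or.inl hsol) (X := EX k M) s
    (fun b hb => orbit_eq_of_normalizes (X := EX k M) B H hBH h6 s Y (Set.toFinite Y) hstab hYO hb)
  have hgY := hstab g (Subgroup.mem_sup_right hg)
  exact ⟨conjL g s, hgY.2, hgY.1, hfix⟩

end Cfsg.Agent.H220.Zj
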